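import Cfsg.Agent.H23.KGV.Count

/-!
Groups of semilinear maps of a finite field, transitive on the non-zero elements: class numbers.
-/

set_option autoImplicit false
set_option linter.style.haveILetI false
set_option linter.unusedSectionVars false
set_option maxHeartbeats 1000000

namespace H23.KGV

open scoped Classical

universe u v

variable {p : ℕ} [Fact p.Prime] {V : Type v} [AddCommGroup V] [Module (ZMod p) V] [Finite V]
  {G : Type u} [Group G] [Finite G] (ρ : G →* (V ≃ₗ[ZMod p] V))

/-- Arithmetic of the bound. -/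
theorem semilinear_arith {p n d o s : ℕ} (hp : p.Prime) (hn : 3 ≤ n) (ho : 2 ≤ o) (hdo : d * o = n)
    (hsn : s ≤ n) (h2 : p = 2 → 3 ≤ o) : (s + 1) * p ^ d < p ^ n ∨ (p = 2 ∧ n = 3) := by
  by_cases hex : p = 2 ∧ n = 3
  · exact Or.inr hex
  left
  have hdn : d ≤ n := hdo ▸ Nat.le_mul_of_pos_right d (by omega)
  have key : ∀ m, 3 ≤ m → 3 * m / 2 + 1 < 2 ^ m := by
    intro m hm
    induction m, hm using Nat.le_induction with
    | base => norm_num
    | succ m hm ih => rw [pow_succ]; omega
  have hmain : n + 1 < p ^ (n - d) := by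
    rcases eq_or_ne p 2 with hp2 | hp2
    · subst hp2
      have h3 : d * 3 ≤ n := hdo ▸ Nat.mul_le_mul_left d (h2 rfl)
      have := key (n - d) (by omega)
      omega
    · have hp3 : 3 ≤ p := by have := hp.two_le; omega
      have h3 : d * 2 ≤ n := hdo ▸ Nat.mul_le_mul_left d ho
      refine lt_of_lt_of_le ?_ (Nat.pow_le_pow_left hp3 _)
      have key3 : ∀ m, 2 ≤ m → 2 * m + 1 < 3 ^ m := by
        intro m hm
        induction m, hm using Nat.le_induction with
        | base => norm_num
        | succ m hm ih => rw [pow_succ]; omega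
      have := key3 (n - d) (by omega)
      omega
  calc (s + 1) * p ^ d ≤ (n + 1) * p ^ d := Nat.mul_le_mul_right _ (by omega)
    _ < p ^ (n - d) * p ^ d := Nat.mul_lt_mul_of_pos_right hmain (pow_pos hp.pos d)
    _ = p ^ n := by rw [← pow_add, Nat.sub_add_cancel hdn]

section abelian

theorem classes_mul_card_ge (A : Subgroup G) (hA : IsMulCommutative A) :
    Nat.card A * Nat.card A ≤ Nat.card (ConjClasses G) * Nat.card G := by
  haveI := Fintype.ofFinite G
  rw [classes_mul_card]
  have h1 : ∀ g ∈ Finset.univ.filter (· ∈ A),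
      Nat.card A ≤ Nat.card (Subgroup.centralizer ({g} : Set G)) := fun g hg =>
    Subgroup.card_le_of_le fun a ha => Subgroup.mem_centralizer_singleton_iff.2
      (congrArg Subtype.val (hA.is_comm.comm (⟨a, ha⟩ : A) ⟨g, (Finset.mem_filter.1 hg).2⟩))
  refine le_trans ?_ (Finset.sum_le_sum_of_subset (Finset.subset_univ (Finset.univ.filter (· ∈ A))))
  refine le_trans (le_of_eq ?_) (Finset.card_nsmul_le_sum _ _ _ h1)
  rw [smul_eq_mul, ← Fintype.card_subtype, ← Nat.card_eq_fintype_card]

/-- The bound through an abelian subgroup meeting outside centralisers in few elements. -/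
theorem classes_bound_abelian (A : Subgroup G) (hA : IsMulCommutative A) (m : ℕ)
    (hm : ∀ g, g ∉ A → Nat.card (Subgroup.centralizer ({g} : Set G) ⊓ A : Subgroup G) ≤ m) :
    Nat.card (ConjClasses G) * A.index ≤ Nat.card A + (A.index * A.index - 1) * m := by
  haveI := Fintype.ofFinite G
  refine Nat.le_of_mul_le_mul_right (c := Nat.card A) ?_ Nat.card_pos
  rw [mul_assoc, mul_comm A.index, A.card_mul_index, classes_mul_card]
  let B : Finset G := Finset.univ.filter (· ∈ A)
  have hB : B.card = Nat.card A := by rw [Nat.card_eq_fintype_card, Fintype.card_subtype]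
  have hU : (Finset.univ \ B).card = Nat.card A * A.index - Nat.card A := by
    rw [Finset.card_univ_diff, hB, ← Nat.card_eq_fintype_card, A.card_mul_index]
  let P : G → G → Prop := fun g x => g * x = x * g
  have hc : ∀ g : G, Nat.card (Subgroup.centralizer ({g} : Set G)) =
      (B.filter (P g)).card + ((Finset.univ \ B).filter (P g)).card := fun g => by
    rw [← Finset.card_union_of_disjoint (Finset.disjoint_filter_filter Finset.disjoint_sdiff),
      ← Finset.filter_union, Finset.union_sdiff_of_subset (Finset.subset_univ _),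
      Nat.card_eq_fintype_card, Fintype.card_subtype]
    congr 1
    refine Finset.filter_congr fun x _ => ?_
    rw [Subgroup.mem_centralizer_singleton_iff]
    exact eq_comm
  have hout : ∀ g ∈ Finset.univ \ B, (B.filter (P g)).card ≤ m := fun g hg => by
    have hgA : g ∉ A := by simpa [B] using hg
    refine le_trans (le_of_eq ?_) (hm g hgA)
    rw [Nat.card_eq_fintype_card, Fintype.card_subtype, Finset.filter_filter]
    refine congrArg Finset.card (Finset.filter_congr fun x _ => ?_)
    rw [Subgroup.mem_inf, Subgroup.mem_centralizer_singleton_iff]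
    exact ⟨fun h => ⟨h.2.symm, h.1⟩, fun h => ⟨h.2, h.1.symm⟩⟩
  have hout2 : ∀ g ∈ Finset.univ \ B, Nat.card (Subgroup.centralizer ({g} : Set G)) ≤ m * A.index :=
    fun g hg => by
      have hgA : g ∉ A := by simpa [B] using hg
      rw [← (A.subgroupOf (Subgroup.centralizer ({g} : Set G))).card_mul_index]
      refine Nat.mul_le_mul (le_trans (le_of_eq ?_) (hm g hgA)) ?_
      · rw [← Nat.card_congr (Subgroup.subgroupOfEquivOfLe
          (inf_le_left : Subgroup.centralizer ({g} : Set G) ⊓ A ≤ _)).toEquiv]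
        rw [Subgroup.inf_subgroupOf_left]
      · rw [← Subgroup.relIndex_top_right A]
        exact Subgroup.relIndex_le_of_le_right (H := A) le_top
          (by rw [Subgroup.relIndex_top_right]; exact Subgroup.index_ne_zero_of_finite)
  have hswap : (∑ g ∈ B, ((Finset.univ \ B).filter (P g)).card) =
      ∑ g ∈ Finset.univ \ B, (B.filter (P g)).card := by
    simp only [Finset.card_filter]
    rw [Finset.sum_comm]
    refine Finset.sum_congr rfl fun g _ => Finset.sum_congr rfl fun x _ => ?_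
    simp only [P, eq_comm]
  rw [← Finset.sum_sdiff (Finset.subset_univ B), Finset.sum_congr rfl (fun g (_ : g ∈ B) => hc g),
    Finset.sum_add_distrib, hswap]
  have h1 : (∑ g ∈ Finset.univ \ B, Nat.card (Subgroup.centralizer ({g} : Set G))) ≤
      (Nat.card A * A.index - Nat.card A) * (m * A.index) := by
    refine (Finset.sum_le_card_nsmul _ _ _ hout2).trans ?_
    rw [smul_eq_mul, hU]
  have h2 : (∑ g ∈ B, (B.filter (P g)).card) ≤ Nat.card A * Nat.card A := by
    refine (Finset.sum_le_card_nsmul _ _ _ fun g _ => Finset.card_filter_le _ _).trans ?_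
    rw [smul_eq_mul, hB]
  have h3 : (∑ g ∈ Finset.univ \ B, (B.filter (P g)).card) ≤
      (Nat.card A * A.index - Nat.card A) * m := by
    refine (Finset.sum_le_card_nsmul _ _ _ hout).trans ?_
    rw [smul_eq_mul, hU]
  obtain ⟨t, ht⟩ : ∃ t, A.index = t + 1 :=
    ⟨A.index - 1, by have := A.index_ne_zero_of_finite; omega⟩
  rw [ht] at h1 h3 ⊢
  rw [show Nat.card A * (t + 1) - Nat.card A = Nat.card A * t by
    rw [mul_add, mul_one, Nat.add_sub_cancel]] at h1 h3
  rw [show (t + 1) * (t + 1) - 1 = t * (t + 2) by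
    rw [show (t + 1) * (t + 1) = t * (t + 2) + 1 by ring]; rfl]
  nlinarith

end abelian

section field

variable {F : Type*} [Field F] [Fintype F]

/-- Ring automorphisms of a finite field commute. -/
theorem ringAut_comm (σ τ : RingAut F) : σ * τ = τ * σ := by
  obtain ⟨u, hu⟩ := IsCyclic.exists_generator (α := Fˣ)
  obtain ⟨i, hi⟩ := Subgroup.mem_zpowers_iff.1 (hu (Units.map (σ : F ≃+* F).toMonoidHom u))
  obtain ⟨j, hj⟩ := Subgroup.mem_zpowers_iff.1 (hu (Units.map (τ : F ≃+* F).toMonoidHom u))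
  refine RingEquiv.ext fun x => ?_
  rcases eq_or_ne x 0 with rfl | hx
  · simp
  obtain ⟨k, hk⟩ := Subgroup.mem_zpowers_iff.1 (hu (Units.mk0 x hx))
  have hx' : x = ((u ^ k : Fˣ) : F) := by rw [hk]; rfl
  have hσ : ∀ l : ℤ, σ ((u ^ l : Fˣ) : F) = ((u ^ (i * l) : Fˣ) : F) := fun l => by
    rw [zpow_mul, hi, ← map_zpow]; rfl
  have hτ : ∀ l : ℤ, τ ((u ^ l : Fˣ) : F) = ((u ^ (j * l) : Fˣ) : F) := fun l => by
    rw [zpow_mul, hj, ← map_zpow]; rfl
  show σ (τ x) = τ (σ x)
  rw [hx', hσ k, hτ k, hσ, hτ, mul_left_comm]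

/-- The fixed field of a group of automorphisms. -/
theorem card_fixed_pow (R : Subgroup (RingAut F)) :
    Nat.card {x : F // ∀ r ∈ R, r x = x} ^ Nat.card R = Nat.card F := by
  haveI : Finite (RingAut F) := Finite.of_injective _ DFunLike.coe_injective
  haveI := Fintype.ofFinite R
  have h1 := FixedPoints.finrank_eq_card R F
  have h2 := Module.natCard_eq_pow_finrank (K := FixedPoints.subfield R F) (V := F)
  have h3 : Nat.card (FixedPoints.subfield R F) = Nat.card {x : F // ∀ r ∈ R, r x = x} := by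
    refine Nat.card_congr (Equiv.subtypeEquivRight fun x => ?_)
    exact ⟨fun h r hr => h ⟨r, hr⟩, fun h r => h r r.2⟩
  rw [h2, h1, h3, Nat.card_eq_fintype_card (α := R)]

variable {q : ℕ} (hq : q.Prime) {n : ℕ} (hF : Nat.card F = q ^ n)

include hq hF

theorem card_fixed (R : Subgroup (RingAut F)) :
    ∃ d, Nat.card {x : F // ∀ r ∈ R, r x = x} = q ^ d ∧ d * Nat.card R = n := by
  haveI : Finite (RingAut F) := Finite.of_injective _ DFunLike.coe_injective
  have h1 := (card_fixed_pow R).trans hF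
  have hdvd : Nat.card {x : F // ∀ r ∈ R, r x = x} ∣ q ^ n :=
    h1 ▸ dvd_pow_self _ Nat.card_pos.ne'
  obtain ⟨d, -, hd⟩ := (Nat.dvd_prime_pow hq).1 hdvd
  rw [hd, ← pow_mul] at h1
  exact ⟨d, hd, Nat.pow_right_injective hq.two_le h1⟩

end field

variable {F : Type*} [Field F] [Fintype F] (e : V ≃+ F)
  (hsemi : ∀ g : G, ∃ (a : F) (σ : F ≃+* F), ∀ v : V, e (ρ g v) = a * σ (e v))

include hsemi

theorem exists_parts : ∃ (τ : G →* RingAut F) (α : G → Fˣ),
    ∀ (g : G) (v : V), e (ρ g v) = α g * τ g (e v) := by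
  choose a σ hσ using hsemi
  have ha : ∀ g, a g ≠ 0 := fun g h => by
    have h1 := hσ g (e.symm 1)
    rw [h, zero_mul, ← e.map_zero] at h1
    have h2 := (LinearEquiv.map_eq_zero_iff (ρ g)).1 (e.injective h1)
    exact one_ne_zero (α := F) (by simpa using congrArg e h2)
  have huniq : ∀ (g : G) (b : F) (τ : F ≃+* F), (∀ v, e (ρ g v) = b * τ (e v)) →
      b = a g ∧ τ = σ g := by
    intro g b τ hb
    have h1 := hσ g (e.symm 1)
    rw [hb (e.symm 1), e.apply_symm_apply, map_one, map_one, mul_one, mul_one] at h1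
    refine ⟨h1, RingEquiv.ext fun x => mul_left_cancel₀ (ha g) ?_⟩
    have h2 := hσ g (e.symm x)
    rw [hb (e.symm x), e.apply_symm_apply, h1] at h2
    exact h2
  have hmul : ∀ g h : G, σ g * σ h = σ (g * h) := fun g h => by
    refine (huniq (g * h) (a g * σ g (a h)) (σ g * σ h) fun v => ?_).2
    rw [map_mul, LinearEquiv.mul_apply, hσ, hσ, map_mul, ← mul_assoc]
    rfl
  exact ⟨MonoidHom.mk' σ fun g h => (hmul g h).symm, fun g => Units.mk0 (a g) (ha g), hσ⟩

variable (hρ : Function.Injective ρ)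
  (htr : ∀ x y : V, x ≠ 0 → y ≠ 0 → ∃ g : G, ρ g x = y)

include hρ htr

/-- The structure used by both bounds. -/
theorem semilinear_data {n : ℕ} (hq : Nat.card V = p ^ n) (hn : 0 < n) {x₀ : V} (hx₀ : x₀ ≠ 0) :
    ∃ A : Subgroup G, IsMulCommutative A ∧ Nat.card A ≤ p ^ n - 1 ∧ A.index ≤ n ∧
      Nat.card (stab ρ x₀) ≤ A.index ∧ IsMulCommutative (stab ρ x₀) ∧
      ∀ g, g ∉ A → ∃ d o, 2 ≤ o ∧ o ∣ Nat.card G ∧ d * o = n ∧
        Nat.card (Subgroup.centralizer ({g} : Set G) ⊓ A : Subgroup G) + 1 ≤ p ^ d := by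
  obtain ⟨τ, α, hτ⟩ := exists_parts ρ e hsemi
  haveI : Finite (RingAut F) := Finite.of_injective _ DFunLike.coe_injective
  have hF : Nat.card F = p ^ n := by rw [← Nat.card_congr e.toEquiv, hq]
  have hker : ∀ g ∈ τ.ker, ∀ v : V, e (ρ g v) = α g * e v := fun g hg v => by
    rw [hτ, MonoidHom.mem_ker.1 hg]; rfl
  have hinj : ∀ g ∈ τ.ker, ∀ g' ∈ τ.ker, (α g : F) = α g' → g = g' := fun g hg g' hg' h =>
    hρ (LinearEquiv.ext fun v => e.injective (by rw [hker g hg, hker g' hg', h]))
  have hfix : ∀ g ∈ τ.ker, g ∈ stab ρ x₀ → g = 1 := fun g hg hgx => by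
    refine hinj g hg 1 (one_mem _) ?_
    have h1 := hker g hg x₀
    rw [(hgx : ρ g x₀ = x₀)] at h1
    have h2 := hker 1 (one_mem _) x₀
    rw [map_one, show (1 : V ≃ₗ[ZMod p] V) x₀ = x₀ from rfl] at h2
    exact mul_right_cancel₀ (fun h => hx₀ (e.map_eq_zero_iff.1 h)) (h1.symm.trans h2)
  refine ⟨τ.ker, ⟨⟨fun a b => Subtype.ext (hρ (LinearEquiv.ext fun v => e.injective ?_))⟩⟩,
    ?_, ?_, ?_, ?_, ?_⟩
  · simp only [Subgroup.coe_mul, map_mul, LinearEquiv.mul_apply, hker _ a.2, hker _ b.2]
    ring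
  · refine le_trans (Nat.card_le_card_of_injective (fun a : τ.ker => α a) fun a b h =>
      Subtype.ext (hinj a a.2 b b.2 (congrArg Units.val h))) ?_
    rw [Nat.card_units, hF]
  · rw [Subgroup.index_ker]
    obtain ⟨d, -, hd⟩ := card_fixed Fact.out hF τ.range
    refine Nat.le_of_dvd hn ?_
    exact Dvd.intro_left d hd
  · rw [Subgroup.index_ker]
    refine Nat.card_le_card_of_injective (fun g : stab ρ x₀ => (⟨τ g, g, rfl⟩ : τ.range))
      fun g g' h => Subtype.ext (eq_of_inv_mul_eq_one ?_)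
    refine hfix _ ?_ (mul_mem (inv_mem g.2) g'.2)
    rw [MonoidHom.mem_ker, map_mul, map_inv, inv_mul_eq_one]
    exact congrArg Subtype.val h
  · refine ⟨⟨fun g g' => Subtype.ext (eq_of_mul_inv_eq_one ?_)⟩⟩
    refine hfix _ ?_ ?_
    · rw [MonoidHom.mem_ker, map_mul, map_inv, Subgroup.coe_mul, Subgroup.coe_mul, map_mul, map_mul,
        ringAut_comm (τ ↑g') (τ ↑g), mul_inv_cancel]
    · exact mul_mem (g * g').2 (inv_mem (g' * g).2)
  · intro g hg
    have hσ : τ g ≠ 1 := hg
    obtain ⟨d, hd, hdo⟩ := card_fixed Fact.out hF (Subgroup.zpowers (τ g))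
    refine ⟨d, Nat.card (Subgroup.zpowers (τ g)), ?_, ?_, hdo, ?_⟩
    · rw [Nat.card_zpowers]
      have := orderOf_pos (τ g)
      have : orderOf (τ g) ≠ 1 := fun h => hσ (orderOf_eq_one_iff.1 h)
      omega
    · rw [Nat.card_zpowers]
      exact (orderOf_map_dvd τ g).trans (orderOf_dvd_natCard g)
    · rw [← hd]
      let S := {x : F // ∀ r ∈ Subgroup.zpowers (τ g), r x = x}
      have hmem : ∀ a ∈ Subgroup.centralizer ({g} : Set G) ⊓ τ.ker,
          ∀ r ∈ Subgroup.zpowers (τ g), r (α a : F) = (α a : F) := by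
        rintro a ⟨hac, hak⟩ r hr
        have hfix1 : τ g (α a : F) = α a := by
          have h1 := hτ g (ρ a (e.symm 1))
          have h2 := hker a hak (ρ g (e.symm 1))
          rw [← LinearEquiv.mul_apply, ← map_mul] at h1 h2
          rw [Subgroup.mem_centralizer_singleton_iff.1 hac] at h2
          have h3 := hker a hak (e.symm 1)
          rw [e.apply_symm_apply, mul_one] at h3
          have h4 := hτ g (e.symm (1 : F))
          rw [e.apply_symm_apply, map_one (τ g), mul_one] at h4
          rw [h2, h3, h4] at h1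
          exact mul_left_cancel₀ (α g).ne_zero (h1.symm.trans (mul_comm _ _))
        have hle : Subgroup.zpowers (τ g) ≤ MulAction.stabilizer (RingAut F) (α a : F) :=
          Subgroup.zpowers_le.2 hfix1
        exact hle hr
      let f : Option (Subgroup.centralizer ({g} : Set G) ⊓ τ.ker : Subgroup G) → S := fun a =>
        a.elim ⟨0, fun r _ => map_zero r⟩ fun a => ⟨α a, hmem a a.2⟩
      have hf : Function.Injective f := by
        rintro (_ | a) (_ | b) h
        · rfl
        · exact absurd (congrArg Subtype.val h).symm (α b).ne_zero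
        · exact absurd (congrArg Subtype.val h) (α a).ne_zero
        · exact congrArg some (Subtype.ext (hinj a a.2.2 b b.2.2 (congrArg Subtype.val h)))
      have h1 := Nat.card_le_card_of_injective f hf
      rwa [Finite.card_option] at h1

/-- The class number bound for semilinear groups. -/
theorem semilinear_upper (hcop : ¬ p ∣ Nat.card G) {n : ℕ} (hq : Nat.card V = p ^ n) (hn : 3 ≤ n)
    {x₀ : V} (hx₀ : x₀ ≠ 0) :
    Nat.card (ConjClasses G) + Nat.card (ConjClasses (stab ρ x₀)) < Nat.card V ∨ IsCyclic G ∨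
      (Nat.card V = 8 ∧ Nat.card G = 21) := by
  obtain ⟨A, hAc, hA, hsn, hhs, -, hcent⟩ := semilinear_data ρ e hsemi hρ htr hq (by omega) hx₀
  have hkH : Nat.card (ConjClasses (stab ρ x₀)) ≤ Nat.card (stab ρ x₀) := classes_le_card
  have hG := card_eq_of_trans ρ htr hx₀
  have hp : p.Prime := Fact.out
  have hq8 : 8 ≤ p ^ n :=
    le_trans (Nat.pow_le_pow_right (n := 2) (by norm_num) hn) (Nat.pow_le_pow_left hp.two_le n)
  rw [hq] at hG ⊢
  set h := Nat.card (stab ρ x₀) with hh
  have hh0 : 0 < h := Nat.card_pos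
  rcases eq_or_ne h 1 with h1 | h1
  · rw [h1, mul_one] at hG
    by_cases hab : IsMulCommutative G
    · exact Or.inr (Or.inl (isCyclic_of_commutative ρ hρ htr hab))
    · have := classes_lt_card hab
      left
      omega
  have hmulG : Nat.card A * A.index = Nat.card G := A.card_mul_index
  set s := A.index with hs
  have hs2 : 2 ≤ s := by omega
  let M := (Finset.range (p ^ n + 1)).filter fun m => ∃ g, g ∉ A ∧
    Nat.card (Subgroup.centralizer ({g} : Set G) ⊓ A : Subgroup G) = m
  have hex : ∃ g, g ∉ A := by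
    by_contra hcon
    push Not at hcon
    have : A = ⊤ := top_le_iff.1 fun g _ => hcon g
    rw [hs, this, Subgroup.index_top] at hs2
    omega
  have hMne : M.Nonempty := by
    obtain ⟨g, hg⟩ := hex
    refine ⟨_, Finset.mem_filter.2 ⟨Finset.mem_range.2 ?_, g, hg, rfl⟩⟩
    have := Subgroup.card_le_of_le (inf_le_right : Subgroup.centralizer ({g} : Set G) ⊓ A ≤ A)
    omega
  obtain ⟨hm, g₀, hg₀, hg₀m⟩ := Finset.mem_filter.1 (M.max'_mem hMne)
  set m := M.max' hMne with hmdef
  have hle : ∀ g, g ∉ A → Nat.card (Subgroup.centralizer ({g} : Set G) ⊓ A : Subgroup G) ≤ m := by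
    intro g hg
    refine M.le_max' _ (Finset.mem_filter.2 ⟨Finset.mem_range.2 ?_, g, hg, rfl⟩)
    have := Subgroup.card_le_of_le (inf_le_right : Subgroup.centralizer ({g} : Set G) ⊓ A ≤ A)
    omega
  have hkey : Nat.card (ConjClasses G) * s ≤ Nat.card A + (s * s - 1) * m :=
    classes_bound_abelian A hAc m hle
  obtain ⟨d, o, ho, hoG, hdo, hd⟩ := hcent g₀ hg₀
  rw [hg₀m] at hd
  have h2o : p = 2 → 3 ≤ o := fun h2 => by
    by_contra ho3
    have : o = 2 := by omega
    exact hcop (h2 ▸ this ▸ hoG)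
  by_cases hex8 : Nat.card (ConjClasses G) + Nat.card (ConjClasses (stab ρ x₀)) < p ^ n
  · exact Or.inl hex8
  right; right
  rcases semilinear_arith hp hn ho hdo hsn h2o with hlt | ⟨rfl, rfl⟩
  · exfalso
    obtain ⟨t, hts⟩ : ∃ t, s = t + 2 := ⟨s - 2, by omega⟩
    rw [hts] at hkey hlt hhs
    have e1 : (t + 2) * (t + 2) - 1 = (t + 1) * (t + 3) := by
      rw [show (t + 2) * (t + 2) = (t + 1) * (t + 3) + 1 by ring]; rfl
    rw [e1] at hkey
    have e2 : (t + 3) * (m + 1) ≤ (t + 3) * p ^ d := Nat.mul_le_mul_left _ hd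
    have e3 : (t + 3) * (m + 1) < p ^ n := lt_of_le_of_lt e2 hlt
    have e4 : p ^ n * (t + 2) ≤ (Nat.card (ConjClasses G) + (t + 2)) * (t + 2) :=
      Nat.mul_le_mul_right _ (by omega)
    have e5 : (t + 1) * ((t + 3) * (m + 1)) + (t + 1) ≤ (t + 1) * p ^ n :=
      by nlinarith
    have e6 : Nat.card A + 1 ≤ p ^ n := by omega
    nlinarith
  · refine ⟨by norm_num, ?_⟩
    have ho3 : o = 3 := by
      have : o ≤ 3 := hdo ▸ Nat.le_mul_of_pos_left o (Nat.pos_of_ne_zero (by
        rintro rfl; simp at hdo))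
      have := h2o rfl
      omega
    have h3 : h = 3 := by
      have : ¬ 2 ∣ h := fun h2 => hcop (hG ▸ Dvd.dvd.mul_left h2 _)
      omega
    rw [hG, h3]; norm_num

/-- Semilinear groups have at least `p` classes. -/
theorem semilinear_lower {n : ℕ} (hq : Nat.card V = p ^ n) (hn : 3 ≤ n) (hp3 : 3 ≤ p)
    {x₀ : V} (hx₀ : x₀ ≠ 0) : p ≤ Nat.card (ConjClasses G) := by
  obtain ⟨A, hAc, -, hsn, hhs, -, -⟩ := semilinear_data ρ e hsemi hρ htr hq (by omega) hx₀
  have hG := card_eq_of_trans ρ htr hx₀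
  rw [hq, ← A.card_mul_index] at hG
  have hk : Nat.card A ≤ Nat.card (ConjClasses G) * A.index := by
    have h1 := classes_mul_card_ge A hAc
    rw [← A.card_mul_index, mul_comm (Nat.card A) A.index, ← mul_assoc] at h1
    exact Nat.le_of_mul_le_mul_right h1 Nat.card_pos
  have hs : n * n * (p - 1) < p ^ n - 1 := by
    obtain ⟨e, rfl⟩ : ∃ e, p = e + 3 := ⟨p - 3, by omega⟩
    have key : ∀ m, 3 ≤ m → m * m * (e + 2) + 2 ≤ (e + 3) ^ m := by
      intro m hm
      induction m, hm using Nat.le_induction with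
      | base => nlinarith [pow_nonneg (Nat.zero_le e) 3]
      | succ m hm ih =>
        have h9 : (m + 1) * (m + 1) ≤ m * m * 3 := by nlinarith
        have h10 := Nat.mul_le_mul_right (e + 2) h9
        have h11 := Nat.mul_le_mul ih (show 3 ≤ e + 3 by omega)
        rw [pow_succ]; nlinarith
    have := key n hn
    rw [show e + 3 - 1 = e + 2 by omega]
    omega
  by_contra hcon
  have h1 : p ^ n - 1 ≤ Nat.card A * A.index := hG ▸ Nat.le_mul_of_pos_right _ Nat.card_pos
  have h2 : Nat.card A * A.index ≤ Nat.card (ConjClasses G) * A.index * A.index :=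
    Nat.mul_le_mul_right _ hk
  have h3 : Nat.card (ConjClasses G) * A.index * A.index ≤ (p - 1) * n * n :=
    Nat.mul_le_mul (Nat.mul_le_mul (by omega) hsn) hsn
  nlinarith

end H23.KGV
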