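import Cfsg.Agent.H23.KGV.Count

/-!
Linear groups of order prime to `p` acting transitively on the non-zero vectors of a plane.
-/

set_option autoImplicit false
set_option linter.style.haveILetI false
set_option linter.unusedSectionVars false

namespace H23.KGV

open scoped Classical

universe u v

variable {p : ℕ} [Fact p.Prime] {V : Type v} [AddCommGroup V] [Module (ZMod p) V] [Finite V]
  {G : Type u} [Group G] [Finite G] (ρ : G →* (V ≃ₗ[ZMod p] V))

/-- The elements acting as scalars. -/
def scal : Subgroup G where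
  carrier := {g | ∃ a : ZMod p, ∀ x : V, ρ g x = a • x}
  one_mem' := ⟨1, fun x => by simp⟩
  mul_mem' {g k} := by
    rintro ⟨a, ha⟩ ⟨b, hb⟩
    exact ⟨b * a, fun x => by rw [map_mul, LinearEquiv.mul_apply, hb, map_smul, ha, smul_smul]⟩
  inv_mem' {g} := by
    rintro ⟨a, ha⟩
    refine ⟨a⁻¹, fun x => ?_⟩
    have h1 : a • ρ g⁻¹ x = x := by
      rw [← ha, ← LinearEquiv.mul_apply, ← map_mul, mul_inv_cancel, map_one]; rfl
    rcases eq_or_ne a 0 with rfl | h0
    · rw [zero_smul] at h1
      rw [← h1]; simp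
    · conv_rhs => rw [← h1]
      rw [inv_smul_smul₀ h0]

theorem mem_scal {g : G} : g ∈ scal ρ ↔ ∃ a : ZMod p, ∀ x : V, ρ g x = a • x := Iff.rfl

theorem card_scal_le (hρ : Function.Injective ρ) (hV : Nontrivial V) :
    Nat.card (scal ρ) ≤ p - 1 := by
  obtain ⟨x, hx⟩ := exists_ne (0 : V)
  choose a ha using fun g : scal ρ => (mem_scal ρ).1 g.2
  have hne : ∀ g, a g ≠ 0 := fun g h0 => hx ((ρ g).map_eq_zero_iff.1 (by rw [ha, h0, zero_smul]))
  have hinj : Function.Injective fun g => Units.mk0 (a g) (hne g) := fun g k h => by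
    have h1 : a g = a k := congrArg Units.val h
    exact Subtype.ext (hρ (LinearEquiv.ext fun y => by rw [ha, ha, h1]))
  refine (Nat.card_le_card_of_injective _ hinj).trans (le_of_eq ?_)
  rw [Nat.card_eq_fintype_card, ZMod.card_units]

variable {ρ} (hd : Module.finrank (ZMod p) V = 2)

omit [Finite V] in
theorem one_apply' (x : V) : (1 : V ≃ₗ[ZMod p] V) x = x := rfl

include hd

theorem nontrivial_two : Nontrivial V :=
  Module.nontrivial_of_finrank_pos (R := ZMod p) (by omega)

theorem card_two : Nat.card V = p ^ 2 := by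
  rw [Module.natCard_eq_pow_finrank (K := ZMod p), Nat.card_zmod, hd]

theorem exists_indep {x : V} (hx : x ≠ 0) :
    ∃ y : V, LinearIndependent (ZMod p) ![x, y] := by
  haveI : Module.Finite (ZMod p) V := Module.Finite.of_finite
  by_contra h
  push Not at h
  have htop : ∀ y : V, y ∈ Submodule.span (ZMod p) ({x} : Set V) := fun y => by
    have h1 := h y
    rw [LinearIndependent.pair_iff' hx] at h1
    push Not at h1
    obtain ⟨a, ha⟩ := h1
    exact Submodule.mem_span_singleton.2 ⟨a, ha⟩
  have h2 : Submodule.span (ZMod p) ({x} : Set V) = ⊤ := Submodule.eq_top_iff'.2 htop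
  have h3 := finrank_span_singleton (K := ZMod p) hx
  rw [h2, finrank_top, hd] at h3
  omega

theorem eq_comb {x y : V} (hli : LinearIndependent (ZMod p) ![x, y]) (w : V) :
    ∃ a b : ZMod p, w = a • x + b • y := by
  haveI : Module.Finite (ZMod p) V := Module.Finite.of_finite
  have h1 := hli.span_eq_top_of_card_eq_finrank' (by simp [hd])
  have h2 : w ∈ Submodule.span (ZMod p) ({x, y} : Set V) := by
    rw [show ({x, y} : Set V) = Set.range ![x, y] by simp [Matrix.range_cons, Set.pair_comm], h1]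
    trivial
  obtain ⟨a, b, hab⟩ := Submodule.mem_span_pair.1 h2
  exact ⟨a, b, hab.symm⟩

/-- A non-scalar element has a cyclic vector. -/
theorem exists_cyclic_vec {g : G} (hg : g ∉ scal ρ) :
    ∃ w : V, LinearIndependent (ZMod p) ![w, ρ g w] := by
  by_contra h
  push Not at h
  have hl : ∀ w : V, w ≠ 0 → ∃ a : ZMod p, ρ g w = a • w := fun w hw => by
    have h1 := h w
    rw [LinearIndependent.pair_iff' hw] at h1
    push Not at h1
    obtain ⟨a, ha⟩ := h1
    exact ⟨a, ha.symm⟩
  haveI := nontrivial_two hd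
  obtain ⟨x, hx⟩ := exists_ne (0 : V)
  obtain ⟨y, hxy⟩ := exists_indep hd hx
  have hy : y ≠ 0 := hxy.ne_zero 1
  have hp2 := LinearIndependent.pair_iff.1 hxy
  obtain ⟨a, ha⟩ := hl x hx
  obtain ⟨b, hb⟩ := hl y hy
  have hxy0 : x + y ≠ 0 := fun e => one_ne_zero (hp2 1 1 (by rw [one_smul, one_smul, e])).1
  obtain ⟨c, hc⟩ := hl (x + y) hxy0
  rw [map_add, ha, hb, smul_add] at hc
  have h2 := hp2 (a - c) (b - c) (by rw [sub_smul, sub_smul]; linear_combination (norm := module) hc)
  have hab : a = b := by rw [sub_eq_zero.1 h2.1, sub_eq_zero.1 h2.2]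
  refine hg ⟨a, fun w => ?_⟩
  obtain ⟨s, t, rfl⟩ := eq_comb hd hxy w
  rw [map_add, map_smul, map_smul, ha, hb, ← hab, smul_comm s a, smul_comm t a, ← smul_add]

omit hd in
theorem commute_apply {c g : G} (h : c * g = g * c) (w : V) : ρ c (ρ g w) = ρ g (ρ c w) := by
  rw [← LinearEquiv.mul_apply, ← map_mul, h, map_mul, LinearEquiv.mul_apply]

/-- An element commuting with a non-scalar `g` is a combination of `1` and `g`. -/
theorem comb_of_commute {g c : G} (hg : g ∉ scal ρ) (hc : c * g = g * c) :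
    ∃ a b : ZMod p, ∀ u : V, ρ c u = a • u + b • ρ g u := by
  obtain ⟨w, hw⟩ := exists_cyclic_vec hd hg
  obtain ⟨a, b, hab⟩ := eq_comb hd hw (ρ c w)
  refine ⟨a, b, fun u => ?_⟩
  obtain ⟨s, t, rfl⟩ := eq_comb hd hw u
  simp only [map_add, map_smul, commute_apply hc, hab]
  module

theorem commute_of_commute (hρ : Function.Injective ρ) {g c c' : G} (hg : g ∉ scal ρ)
    (hc : c * g = g * c) (hc' : c' * g = g * c') : c * c' = c' * c := by
  obtain ⟨a, b, hab⟩ := comb_of_commute hd hg hc
  obtain ⟨a', b', hab'⟩ := comb_of_commute hd hg hc'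
  refine hρ (LinearEquiv.ext fun u => ?_)
  simp only [map_mul, LinearEquiv.mul_apply, hab, hab', map_add, map_smul]
  module

/-- If two vectors are independent and `c` fixes both, `c = 1`. -/
theorem eq_one_of_fix_two (hρ : Function.Injective ρ) {c : G} {x y : V}
    (hli : LinearIndependent (ZMod p) ![x, y]) (hx : ρ c x = x) (hy : ρ c y = y) : c = 1 :=
  hρ (LinearEquiv.ext fun u => by
    obtain ⟨s, t, rfl⟩ := eq_comb hd hli u
    rw [map_add, map_smul, map_smul, hx, hy, map_one]; rfl)

/-- The fixed vectors of a non-trivial element lie on one line. -/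
theorem fix_on_line (hρ : Function.Injective ρ) {c : G} (hc : c ≠ 1) {x y : V} (hx0 : x ≠ 0)
    (hx : ρ c x = x) (hy : ρ c y = y) : ∃ a : ZMod p, y = a • x := by
  by_contra h
  push Not at h
  exact hc (eq_one_of_fix_two hd hρ ((LinearIndependent.pair_iff' hx0).2 fun a e => h a e.symm) hx hy)

/-- The stabiliser of a vector embeds in the multiplicative group of `ZMod p`. -/
theorem stab_embeds (hρ : Function.Injective ρ) (hcop : ¬ p ∣ Nat.card G) {x : V} (hx : x ≠ 0) :
    ∃ f : stab ρ x →* (ZMod p)ˣ, Function.Injective f := by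
  obtain ⟨y, hxy⟩ := exists_indep hd hx
  choose a b hab using fun c : stab ρ x => eq_comb hd hxy (ρ c y)
  have hfx : ∀ c : stab ρ x, ρ c x = x := fun c => c.2
  have huniq : ∀ a₁ b₁ a₂ b₂ : ZMod p, a₁ • x + b₁ • y = a₂ • x + b₂ • y → a₁ = a₂ ∧ b₁ = b₂ := by
    intro a₁ b₁ a₂ b₂ h
    have := LinearIndependent.pair_iff.1 hxy (a₁ - a₂) (b₁ - b₂)
      (by rw [sub_smul, sub_smul]; linear_combination (norm := module) h)
    exact ⟨sub_eq_zero.1 this.1, sub_eq_zero.1 this.2⟩
  have hmul : ∀ c c' : stab ρ x, b (c * c') = b c * b c' := by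
    intro c c'
    have h1 := hab (c * c')
    rw [Subgroup.coe_mul, map_mul, LinearEquiv.mul_apply, hab c', map_add, map_smul, map_smul,
      hfx c, hab c, smul_add, smul_smul, smul_smul, ← add_assoc, ← add_smul] at h1
    rw [← (huniq _ _ _ _ h1).2]
    exact mul_comm _ _
  have hone : b 1 = 1 := by
    have h1 := hab 1
    rw [Subgroup.coe_one, map_one, one_apply'] at h1
    exact ((huniq 0 1 (a 1) (b 1) (by rw [zero_smul, one_smul, zero_add]; exact h1)).2).symm
  let f0 : stab ρ x →* ZMod p := { toFun := b, map_one' := hone, map_mul' := hmul }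
  refine ⟨f0.toHomUnits, ?_⟩
  rw [injective_iff_map_eq_one]
  intro c hc
  have hb1 : b c = 1 := congrArg Units.val hc
  refine Subtype.ext ?_
  have hy1 : ρ c y = a c • x + y := by rw [hab c, hb1, one_smul]
  have hk : ∀ k : ℕ, ρ ((c : G) ^ k) y = ((k : ZMod p) * a c) • x + y := by
    intro k
    induction k with
    | zero => simp
    | succ k ih =>
      rw [pow_succ', map_mul, LinearEquiv.mul_apply, ih, map_add, map_smul, hfx c, hy1,
        Nat.cast_succ, add_mul, one_mul, add_smul, add_assoc]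
  have hG := hk (Nat.card G)
  rw [pow_card_eq_one', map_one, one_apply'] at hG
  have h0 := huniq 0 1 ((Nat.card G : ZMod p) * a c) 1
    (by rw [zero_smul, one_smul, zero_add]; exact hG)
  have hne : (Nat.card G : ZMod p) ≠ 0 := fun e => hcop ((ZMod.natCast_eq_zero_iff _ _).1 e)
  have ha : a c = 0 := (mul_eq_zero.1 h0.1.symm).resolve_left hne
  rw [ha, zero_smul, zero_add] at hy1
  exact eq_one_of_fix_two hd hρ hxy (hfx c) hy1

theorem stab_le (hρ : Function.Injective ρ) (hcop : ¬ p ∣ Nat.card G) {x : V} (hx : x ≠ 0) :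
    Nat.card (stab ρ x) ≤ p - 1 := by
  obtain ⟨f, hf⟩ := stab_embeds hd hρ hcop hx
  refine (Nat.card_le_card_of_injective f hf).trans (le_of_eq ?_)
  rw [Nat.card_eq_fintype_card, ZMod.card_units]

theorem stab_isCyclic (hρ : Function.Injective ρ) (hcop : ¬ p ∣ Nat.card G) {x : V} (hx : x ≠ 0) :
    IsCyclic (stab ρ x) := by
  obtain ⟨f, hf⟩ := stab_embeds hd hρ hcop hx
  exact isCyclic_of_subgroup_isDomain ((Units.coeHom _).comp f) (Units.val_injective.comp hf)

end H23.KGV
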