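import Mathlib

/-!
Counting conjugacy classes through centralisers, and groups acting linearly and transitively on
the non-zero vectors.
-/

set_option autoImplicit false
set_option linter.style.haveILetI false
set_option linter.unusedSectionVars false

namespace H23.KGV

open scoped Classical

universe u v

section classes

variable {G : Type u} [Group G] [Finite G]

theorem classes_mul_card [Fintype G] :
    Nat.card (ConjClasses G) * Nat.card G =
      ∑ g : G, Nat.card (Subgroup.centralizer ({g} : Set G)) := by
  rw [← card_comm_eq_card_conjClasses_mul_card, ← Nat.card_sigma]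
  refine Nat.card_congr
    { toFun := fun x => ⟨x.1.1, x.1.2, Subgroup.mem_centralizer_singleton_iff.2 x.2.symm.eq⟩
      invFun := fun x => ⟨(x.1, x.2.1), (Commute.symm (Subgroup.mem_centralizer_singleton_iff.1 x.2.2))⟩
      left_inv := fun x => rfl
      right_inv := fun x => rfl }

/-- A bound through two layers of subgroups. -/
theorem classes_mul_card_le (Z A : Subgroup G) (hZA : Z ≤ A) (B C : ℕ)
    (hA : ∀ g ∈ A, g ∉ Z → Nat.card (Subgroup.centralizer ({g} : Set G)) ≤ B)
    (hG : ∀ g, g ∉ A → Nat.card (Subgroup.centralizer ({g} : Set G)) ≤ C) :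
    Nat.card (ConjClasses G) * Nat.card G ≤
      Nat.card Z * Nat.card G + (Nat.card A - Nat.card Z) * B + (Nat.card G - Nat.card A) * C := by
  haveI := Fintype.ofFinite G
  rw [classes_mul_card]
  set sZ : Finset G := Finset.univ.filter (· ∈ Z)
  set sA : Finset G := Finset.univ.filter (· ∈ A)
  have hZ' : sZ.card = Nat.card Z := by
    rw [Nat.card_eq_fintype_card, Fintype.card_subtype]
  have hA' : sA.card = Nat.card A := by
    rw [Nat.card_eq_fintype_card, Fintype.card_subtype]
  have hsub : sZ ⊆ sA := fun g hg => by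
    simp only [sZ, sA, Finset.mem_filter] at hg ⊢
    exact ⟨hg.1, hZA hg.2⟩
  have hsplit : (∑ g : G, Nat.card (Subgroup.centralizer ({g} : Set G))) =
      (∑ g ∈ Finset.univ \ sA, Nat.card (Subgroup.centralizer ({g} : Set G))) +
      ((∑ g ∈ sA \ sZ, Nat.card (Subgroup.centralizer ({g} : Set G))) +
      (∑ g ∈ sZ, Nat.card (Subgroup.centralizer ({g} : Set G)))) := by
    rw [Finset.sum_sdiff hsub, Finset.sum_sdiff (Finset.subset_univ sA)]
  rw [hsplit]
  have h1 : (∑ g ∈ Finset.univ \ sA, Nat.card (Subgroup.centralizer ({g} : Set G))) ≤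
      (Nat.card G - Nat.card A) * C := by
    refine (Finset.sum_le_card_nsmul _ _ C fun g hg => hG g ?_).trans ?_
    · simpa [sA] using hg
    · rw [smul_eq_mul, Finset.card_univ_diff, hA', ← Nat.card_eq_fintype_card]
  have h2 : (∑ g ∈ sA \ sZ, Nat.card (Subgroup.centralizer ({g} : Set G))) ≤
      (Nat.card A - Nat.card Z) * B := by
    refine (Finset.sum_le_card_nsmul _ _ B fun g hg => ?_).trans ?_
    · simp only [sA, sZ, Finset.mem_sdiff, Finset.mem_filter, Finset.mem_univ, true_and] at hg
      exact hA g hg.1 hg.2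
    · rw [smul_eq_mul, Finset.card_sdiff_of_subset hsub, hA', hZ']
  have h3 : (∑ g ∈ sZ, Nat.card (Subgroup.centralizer ({g} : Set G))) ≤
      Nat.card Z * Nat.card G := by
    refine (Finset.sum_le_card_nsmul _ _ (Nat.card G) fun g _ => Subgroup.card_le_card_group _).trans ?_
    rw [smul_eq_mul, hZ']
  omega

theorem classes_le_card : Nat.card (ConjClasses G) ≤ Nat.card G :=
  Nat.card_le_card_of_surjective _ ConjClasses.mk_surjective

theorem classes_lt_card (h : ¬ IsMulCommutative G) : Nat.card (ConjClasses G) < Nat.card G := by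
  haveI := Fintype.ofFinite G
  rw [Nat.card_eq_fintype_card, Nat.card_eq_fintype_card]
  refine Fintype.card_lt_of_surjective_not_injective ConjClasses.mk ConjClasses.mk_surjective
    fun hinj => h ⟨⟨fun a b => ?_⟩⟩
  have h1 : ConjClasses.mk b = ConjClasses.mk (a * b * a⁻¹) :=
    ConjClasses.mk_eq_mk_iff_isConj.2 (isConj_iff.2 ⟨a, rfl⟩)
  have h2 := hinj h1
  calc a * b = (a * b * a⁻¹) * a := by rw [inv_mul_cancel_right]
    _ = b * a := by rw [← h2]

end classes

section action

variable {p : ℕ} [Fact p.Prime] {V : Type v} [AddCommGroup V] [Module (ZMod p) V] [Finite V]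
  {G : Type u} [Group G] [Finite G] (ρ : G →* (V ≃ₗ[ZMod p] V))

/-- The stabiliser of a vector. -/
def stab (x : V) : Subgroup G where
  carrier := {g | ρ g x = x}
  one_mem' := by simp
  mul_mem' {a b} ha hb := by
    show ρ (a * b) x = x
    rw [map_mul, LinearEquiv.mul_apply, hb, ha]
  inv_mem' {a} ha := by
    show ρ a⁻¹ x = x
    conv_lhs => rw [← (ha : ρ a x = x)]
    rw [← LinearEquiv.mul_apply, ← map_mul, inv_mul_cancel, map_one]
    rfl

theorem mem_stab {x : V} {g : G} : g ∈ stab ρ x ↔ ρ g x = x := Iff.rfl

theorem card_eq_of_trans (htr : ∀ x y : V, x ≠ 0 → y ≠ 0 → ∃ g : G, ρ g x = y) {x : V}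
    (hx : x ≠ 0) : Nat.card G = (Nat.card V - 1) * Nat.card (stab ρ x) := by
  let _ : MulAction G V := MulAction.compHom V ρ
  have hst : MulAction.stabilizer G x = stab ρ x := SetLike.ext fun g => Iff.rfl
  have horb : MulAction.orbit G x = ({0}ᶜ : Set V) := by
    ext y
    constructor
    · rintro ⟨g, rfl⟩ e
      exact hx ((ρ g).map_eq_zero_iff.mp e)
    · intro hy
      obtain ⟨g, hg⟩ := htr x y hx hy
      exact ⟨g, hg⟩
  have h1 := (MulAction.stabilizer G x).index_mul_card
  rw [MulAction.index_stabilizer, horb, Set.ncard_compl, Set.ncard_singleton, hst] at h1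
  exact h1.symm

theorem card_stab_eq (htr : ∀ x y : V, x ≠ 0 → y ≠ 0 → ∃ g : G, ρ g x = y) {x y : V}
    (hx : x ≠ 0) (hy : y ≠ 0) : Nat.card (stab ρ x) = Nat.card (stab ρ y) := by
  have h1 := (card_eq_of_trans ρ htr hx).symm.trans (card_eq_of_trans ρ htr hy)
  haveI : Nontrivial V := ⟨⟨x, 0, hx⟩⟩
  exact Nat.eq_of_mul_eq_mul_left (by have := Finite.one_lt_card (α := V); omega) h1

theorem isCyclic_of_commutative (hρ : Function.Injective ρ)
    (htr : ∀ x y : V, x ≠ 0 → y ≠ 0 → ∃ g : G, ρ g x = y) (hab : IsMulCommutative G) :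
    IsCyclic G := by
  rcases subsingleton_or_nontrivial V with hs | hn
  · haveI : Subsingleton G := ⟨fun a b => hρ (LinearEquiv.ext fun x => Subsingleton.elim _ _)⟩
    infer_instance
  · let E : G →* Module.End (ZMod p) V :=
      { toFun := fun g => (ρ g).toLinearMap
        map_one' := by rw [map_one]; rfl
        map_mul' := fun a b => by rw [map_mul]; rfl }
    let R : Subring (Module.End (ZMod p) V) := Subring.centralizer (Set.range E)
    haveI : Nontrivial R := inferInstance
    have hker : ∀ c : R, c ≠ 0 → ∀ x : V, (c : Module.End (ZMod p) V) x = 0 → x = 0 := by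
      intro c hc x hx
      by_contra hx0
      refine hc (Subtype.ext (LinearMap.ext fun y => ?_))
      rcases eq_or_ne y 0 with rfl | hy
      · simp
      obtain ⟨g, rfl⟩ := htr x y hx0 hy
      have h1 := LinearMap.congr_fun (Subring.mem_centralizer_iff.1 c.2 (E g) ⟨g, rfl⟩) x
      simp only [Module.End.mul_apply] at h1
      change ρ g ((c : Module.End (ZMod p) V) x) = (c : Module.End (ZMod p) V) (ρ g x) at h1
      rw [hx, map_zero] at h1
      rw [← h1]
      rfl
    haveI : NoZeroDivisors R := ⟨fun {a b} h => by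
      by_contra hne
      push Not at hne
      refine hne.2 (Subtype.ext (LinearMap.ext fun y => ?_))
      exact hker a hne.1 _ (LinearMap.congr_fun (congrArg Subtype.val h) y)⟩
    haveI : IsDomain R := NoZeroDivisors.to_isDomain R
    haveI : Finite (Module.End (ZMod p) V) := Finite.of_injective _ DFunLike.coe_injective
    haveI : Finite R := inferInstance
    have hF : IsField R := Finite.isDomain_to_isField R
    letI : CommRing R := { (inferInstance : Ring R) with mul_comm := hF.mul_comm }
    haveI : IsDomain R := NoZeroDivisors.to_isDomain R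
    have hmem : ∀ g : G, E g ∈ R := fun g => Subring.mem_centralizer_iff.2 (by
      rintro _ ⟨a, rfl⟩
      rw [← map_mul, ← map_mul, hab.is_comm.comm a g])
    let f : G →* R :=
      { toFun := fun g => ⟨E g, hmem g⟩
        map_one' := Subtype.ext (map_one E)
        map_mul' := fun a b => Subtype.ext (map_mul E a b) }
    refine isCyclic_of_subgroup_isDomain f fun a b h => hρ (LinearEquiv.ext fun y => ?_)
    have h1 : E a = E b := congrArg Subtype.val h
    exact LinearMap.congr_fun h1 y

end action

end H23.KGV
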