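import Cfsg.Agent.H23.KGV.Dim2Basic

/-!
The class number bound for planes: classes of the group plus classes of a vector stabiliser.
-/

set_option autoImplicit false
set_option linter.style.haveILetI false
set_option linter.unusedSectionVars false

namespace H23.KGV

open scoped Classical
open scoped Pointwise

universe u v

variable {p : ℕ} [Fact p.Prime] {V : Type v} [AddCommGroup V] [Module (ZMod p) V] [Finite V]
  {G : Type u} [Group G] [Finite G] {ρ : G →* (V ≃ₗ[ZMod p] V)}
  (hd : Module.finrank (ZMod p) V = 2) (hρ : Function.Injective ρ)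

local notation "Cg" g:max => Subgroup.centralizer ({g} : Set G)

include hd hρ

/-- The centraliser of a non-scalar element fixing a line is no larger than the group of the line. -/
theorem split_bound (htr : ∀ x y : V, x ≠ 0 → y ≠ 0 → ∃ g : G, ρ g x = y)
    {g : G} (hg : g ∉ scal ρ) {u : V} (hu : u ≠ 0) {a : ZMod p} (ha : ρ g u = a • u) {x : V}
    (hx : x ≠ 0) : Nat.card (Cg g) ≤ (p - 1) * Nat.card (stab ρ x) := by
  let _ : MulAction (Cg g) V := MulAction.compHom V (ρ.comp (Subgroup.centralizer ({g} : Set G)).subtype)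
  have hline : MulAction.orbit (Cg g) u ⊆ Set.range fun a : (ZMod p)ˣ => (a : ZMod p) • u := by
    rintro _ ⟨c, rfl⟩
    obtain ⟨s, t, hst⟩ := comb_of_commute hd hg (Subgroup.mem_centralizer_singleton_iff.1 c.2)
    have h1 : ρ (c : G) u = (s + t * a) • u := by rw [hst u, ha, add_smul, smul_smul]
    have hne : s + t * a ≠ 0 := fun e => hu ((ρ (c : G)).map_eq_zero_iff.1 (by rw [h1, e, zero_smul]))
    exact ⟨Units.mk0 _ hne, h1.symm⟩
  have hle : (MulAction.orbit (Cg g) u).ncard ≤ p - 1 := by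
    refine (Set.ncard_le_ncard hline (Set.toFinite _)).trans ?_
    rw [Set.ncard_range_of_injective (fun a b h => Units.ext (smul_left_injective _ hu h)),
      Nat.card_eq_fintype_card, ZMod.card_units]
  have hst : Nat.card (MulAction.stabilizer (Cg g) u) ≤ Nat.card (stab ρ u) :=
    Nat.card_le_card_of_injective
      (fun c : MulAction.stabilizer (Cg g) u => (⟨((c : Cg g) : G), c.2⟩ : stab ρ u))
      fun c c' h => Subtype.ext (Subtype.ext (congrArg (fun z : stab ρ u => (z : G)) h))
  rw [← (MulAction.stabilizer (Cg g) u).index_mul_card, MulAction.index_stabilizer,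
    card_stab_eq ρ htr hx hu]
  exact Nat.mul_le_mul hle hst

/-- A kernel invariant under an element without eigenvectors is trivial or everything. -/
theorem zero_or_injective {g : G} (hg : g ∉ scal ρ)
    (hne : ∀ u : V, u ≠ 0 → ∀ a : ZMod p, ρ g u ≠ a • u)
    (D : Module.End (ZMod p) V) (hD : ∀ x, D (ρ g x) = ρ g (D x)) {x : V} (hx : x ≠ 0)
    (hDx : D x = 0) : D = 0 := by
  have hli : LinearIndependent (ZMod p) ![x, ρ g x] :=
    (LinearIndependent.pair_iff' hx).2 fun a e => hne x hx a e.symm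
  refine LinearMap.ext fun u => ?_
  obtain ⟨s, t, rfl⟩ := eq_comb hd hli u
  rw [map_add, map_smul, map_smul, hD, hDx, map_zero, smul_zero, smul_zero, add_zero]
  rfl

theorem free_centralizer {g : G} (hg : g ∉ scal ρ)
    (hne : ∀ u : V, u ≠ 0 → ∀ a : ZMod p, ρ g u ≠ a • u) {c : G} (hc : c * g = g * c) {x : V}
    (hx : x ≠ 0) (hfix : ρ c x = x) : c = 1 := by
  have h := zero_or_injective hd hρ hg hne ((ρ c).toLinearMap - LinearMap.id)
    (fun y => by simp [commute_apply hc]) hx (by simp [hfix])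
  refine hρ (LinearEquiv.ext fun y => ?_)
  have h1 := LinearMap.congr_fun h y
  simp only [LinearMap.sub_apply, LinearEquiv.coe_coe, LinearMap.id_coe, id_eq,
    LinearMap.zero_apply, sub_eq_zero] at h1
  rw [h1, map_one]; rfl

/-- A centraliser without eigenvectors is regular or at most half as large. -/
theorem elliptic_bound {g : G} (hg : g ∉ scal ρ)
    (hne : ∀ u : V, u ≠ 0 → ∀ a : ZMod p, ρ g u ≠ a • u) :
    Nat.card (Cg g) = p ^ 2 - 1 ∨ 2 * Nat.card (Cg g) ≤ p ^ 2 - 1 := by
  haveI := nontrivial_two hd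
  obtain ⟨x, hx⟩ := exists_ne (0 : V)
  let f : V → Cg g → {w : V // w ≠ 0} := fun z c =>
    if hz : z ≠ 0 then ⟨ρ (c : G) z, fun e => hz ((ρ (c : G)).map_eq_zero_iff.1 e)⟩ else ⟨x, hx⟩
  have key : ∀ z : V, z ≠ 0 → ∀ c c' : Cg g, ρ (c : G) z = ρ (c' : G) z → c = c' := by
    intro z hz c c' h
    have h2 : ρ ((c' : G)⁻¹ * (c : G)) z = z := by
      rw [map_mul, LinearEquiv.mul_apply, h, ← LinearEquiv.mul_apply, ← map_mul, inv_mul_cancel,
        map_one]
      rfl
    have h3 := free_centralizer hd hρ hg hne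
      (Subgroup.mem_centralizer_singleton_iff.1 (mul_mem (inv_mem c'.2) c.2)) hz h2
    exact Subtype.ext (inv_mul_eq_one.1 h3).symm
  have hinj : ∀ z : V, z ≠ 0 → Function.Injective (f z) := fun z hz c c' h => by
    simp only [f, dif_pos hz, Subtype.mk.injEq] at h
    exact key z hz c c' h
  have hcard : Nat.card {w : V // w ≠ 0} = p ^ 2 - 1 := by
    rw [← card_two hd]
    show Nat.card ({0}ᶜ : Set V) = _
    rw [Nat.card_coe_set_eq, Set.ncard_compl, Set.ncard_singleton]
  rcases Classical.em (Function.Surjective (f x)) with hs | hs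
  · left
    rw [← hcard]
    exact Nat.card_eq_of_bijective _ ⟨hinj x hx, hs⟩
  · right
    rw [← hcard]
    unfold Function.Surjective at hs
    push Not at hs
    obtain ⟨y, hy⟩ := hs
    have h2 : Function.Injective (Sum.elim (f x) (f y.1)) := by
      refine (hinj x hx).sumElim (hinj y.1 y.2) fun c c' h => ?_
      apply hy ((c'⁻¹) * c)
      simp only [f, dif_pos hx, dif_pos y.2, Subtype.mk.injEq] at h
      apply Subtype.ext
      simp only [f, dif_pos hx]
      rw [Subgroup.coe_mul, map_mul, LinearEquiv.mul_apply, h, ← LinearEquiv.mul_apply, ← map_mul,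
        ← Subgroup.coe_mul, inv_mul_cancel, Subgroup.coe_one, map_one]
      rfl
    have := Nat.card_le_card_of_injective _ h2
    rw [Nat.card_sum] at this
    omega

section singer

variable {g : G} (hg : g ∉ scal ρ) (hne : ∀ u : V, u ≠ 0 → ∀ a : ZMod p, ρ g u ≠ a • u)

include hg hne

theorem le_two_conj {x : G} (hx : x * g * x⁻¹ ∈ Cg g) :
    x ^ 2 ∈ Cg g ∧ ∀ s t : ZMod p, (∀ u : V, ρ g (ρ g u) = t • u + s • ρ g u) →
      x * g * x⁻¹ = g ∨ ∀ u : V, ρ (x * g * x⁻¹) u = s • u - ρ g u := by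
  have hcom := Subgroup.mem_centralizer_singleton_iff.1 hx
  have hstep : ∀ s t : ZMod p, (∀ u : V, ρ g (ρ g u) = t • u + s • ρ g u) →
      x * g * x⁻¹ = g ∨ ∀ u : V, ρ (x * g * x⁻¹) u = s • u - ρ g u := by
    intro s t hst
    have hroot : ∀ u : V, ρ (x * g * x⁻¹) (ρ (x * g * x⁻¹) u) = t • u + s • ρ (x * g * x⁻¹) u := by
      intro u
      have e2 : ρ (x * g * x⁻¹) (ρ (x * g * x⁻¹) u) = ρ x (ρ g (ρ g (ρ x⁻¹ u))) := by
        simp only [map_mul, LinearEquiv.mul_apply]
        rw [← LinearEquiv.mul_apply (f := ρ x⁻¹), ← map_mul, inv_mul_cancel, map_one]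
        rfl
      rw [e2, hst, map_add, map_smul, map_smul, ← LinearEquiv.mul_apply, ← map_mul, mul_inv_cancel,
        map_one]
      simp only [map_mul, LinearEquiv.mul_apply]
      rfl
    by_cases heq : x * g * x⁻¹ = g
    · exact Or.inl heq
    right
    intro u
    obtain ⟨u₀, hu₀⟩ : ∃ u₀, ρ (x * g * x⁻¹) u₀ ≠ ρ g u₀ := by
      by_contra h
      push Not at h
      exact heq (hρ (LinearEquiv.ext h))
    let D2 : Module.End (ZMod p) V :=
      (ρ (x * g * x⁻¹)).toLinearMap + (ρ g).toLinearMap - s • LinearMap.id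
    have hzero : D2 = 0 := by
      refine zero_or_injective hd hρ hg hne D2 (fun y => ?_) (sub_ne_zero.2 hu₀) ?_
      · simp only [D2, LinearMap.sub_apply, LinearMap.add_apply, LinearEquiv.coe_coe,
          LinearMap.smul_apply, LinearMap.id_coe, id_eq, map_sub, map_add, map_smul,
          commute_apply hcom]
      · simp only [D2, LinearMap.sub_apply, LinearMap.add_apply, LinearEquiv.coe_coe,
          LinearMap.smul_apply, LinearMap.id_coe, id_eq, map_sub, commute_apply hcom, hroot, hst]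
        module
    have h1 := LinearMap.congr_fun hzero u
    simp only [D2, LinearMap.sub_apply, LinearMap.add_apply, LinearEquiv.coe_coe,
      LinearMap.smul_apply, LinearMap.id_coe, id_eq, LinearMap.zero_apply] at h1
    linear_combination (norm := module) h1
  refine ⟨?_, hstep⟩
  obtain ⟨w, hw⟩ := exists_cyclic_vec hd hg
  obtain ⟨t, s, hts⟩ := eq_comb hd hw (ρ g (ρ g w))
  have hquad : ∀ u : V, ρ g (ρ g u) = t • u + s • ρ g u := by
    intro u
    obtain ⟨a, b, rfl⟩ := eq_comb hd hw u
    simp only [map_add, map_smul, hts]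
    module
  rcases hstep s t hquad with h | h
  · refine Subgroup.mem_centralizer_singleton_iff.2 ?_
    have h' : x * g = g * x := mul_inv_eq_iff_eq_mul.1 h
    rw [sq, mul_assoc, h', ← mul_assoc, h', mul_assoc]
  · refine Subgroup.mem_centralizer_singleton_iff.2 (mul_inv_eq_iff_eq_mul.1 (hρ ?_))
    refine LinearEquiv.ext fun u => ?_
    have e1 : x ^ 2 * g * (x ^ 2)⁻¹ = x * (x * g * x⁻¹) * x⁻¹ := by
      simp only [sq, mul_inv_rev, mul_assoc]
    have e2 : ρ (x * g * x⁻¹) u = ρ x (ρ g (ρ x⁻¹ u)) := by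
      simp only [map_mul, LinearEquiv.mul_apply]
    have e3 : ρ x (ρ x⁻¹ u) = u := by
      rw [← LinearEquiv.mul_apply, ← map_mul, mul_inv_cancel, map_one]
      rfl
    rw [e1, map_mul, map_mul, LinearEquiv.mul_apply, LinearEquiv.mul_apply, h, map_sub, map_smul,
      e3, ← e2, h, sub_sub_cancel]

/-- A conjugation-inverted element fixes only scalars of the centraliser. -/
theorem scal_of_commute_both {x a : G} (hp2 : p ≠ 2) (hx : x * g * x⁻¹ ∈ Cg g) (hxg : x * g ≠ g * x)
    (ha : a ∈ Cg g) (hax : a * x = x * a) : a ∈ scal ρ := by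
  obtain ⟨w, hw⟩ := exists_cyclic_vec hd hg
  obtain ⟨t, s, hts⟩ := eq_comb hd hw (ρ g (ρ g w))
  have hquad : ∀ u : V, ρ g (ρ g u) = t • u + s • ρ g u := by
    intro u
    obtain ⟨a, b, rfl⟩ := eq_comb hd hw u
    simp only [map_add, map_smul, hts]
    module
  rcases (le_two_conj hd hρ hg hne hx).2 s t hquad with h | h
  · exact absurd (mul_inv_eq_iff_eq_mul.1 h) hxg
  obtain ⟨α, β, hab⟩ := comb_of_commute hd hg (Subgroup.mem_centralizer_singleton_iff.1 ha)
  refine ⟨α, fun u => ?_⟩
  suffices hb : β = 0 by rw [hab u, hb, zero_smul, add_zero]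
  by_contra hb
  have h2 : ∀ u : V, s • u - ρ g u = ρ g u := by
    intro u
    have h3 : ρ x (ρ a (ρ x⁻¹ u)) = ρ a u := by
      rw [← LinearEquiv.mul_apply, ← map_mul, ← LinearEquiv.mul_apply, ← map_mul, ← hax,
        mul_assoc, mul_inv_cancel, mul_one]
    rw [hab, map_add, map_smul, map_smul, ← LinearEquiv.mul_apply, ← map_mul, mul_inv_cancel,
      map_one, hab u] at h3
    have h4 : ρ x (ρ g (ρ x⁻¹ u)) = s • u - ρ g u := by
      rw [← h u]; simp only [map_mul, LinearEquiv.mul_apply]
    rw [h4] at h3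
    exact smul_right_injective V hb (add_left_cancel h3)
  have h20 : (2 : ZMod p) ≠ 0 := by
    intro h0
    have h5 : ((2 : ℕ) : ZMod p) = 0 := by simpa using h0
    exact hp2 ((Nat.prime_dvd_prime_iff_eq (Fact.out : p.Prime) Nat.prime_two).1
      ((ZMod.natCast_eq_zero_iff _ _).1 h5))
  refine hg ⟨s * (2 : ZMod p)⁻¹, fun u => ?_⟩
  have h5 : (2 : ZMod p) • ρ g u = s • u := by rw [two_smul]; linear_combination (norm := module) -(h2 u)
  rw [mul_comm, ← smul_smul, ← h5, inv_smul_smul₀ h20]

end singer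

end H23.KGV
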