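import Cfsg.Agent.H23.KGV.Count

/-!
Groups with a normal subgroup of order `2 ^ (1 + 4)` on which an element of order five acts without
fixed points modulo the centre: a class number bound.
-/

set_option autoImplicit false
set_option linter.style.haveILetI false
set_option linter.unusedSectionVars false

namespace H23.KGV

open scoped Classical commutatorElement

universe u

variable {G : Type u} [Group G] [Finite G] {K : Subgroup G} [K.Normal]

local notation "Cg" g:max => Subgroup.centralizer ({g} : Set G)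

/-- Conjugation on `K` modulo its centre. -/
@[reducible] def conjQuot (K : Subgroup G) [K.Normal] : MulAction G (K ⧸ Subgroup.center K) where
  smul g := Quotient.map' (MulAut.conjNormal g) fun a b hab => by
    rw [QuotientGroup.leftRel_apply] at hab ⊢
    rw [← map_inv, ← map_mul, Subgroup.mem_center_iff]
    intro y
    obtain ⟨w, rfl⟩ := (MulAut.conjNormal g : MulAut K).surjective y
    rw [← map_mul, ← map_mul, Subgroup.mem_center_iff.1 hab w]
  one_smul b := by
    induction b using QuotientGroup.induction_on with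
    | H a => exact congrArg QuotientGroup.mk (by simp)
  mul_smul g h b := by
    induction b using QuotientGroup.induction_on with
    | H a => exact congrArg QuotientGroup.mk (by simp)

theorem conjQuot_fix (g : G) (y : K) :
    (conjQuot K).smul g (y : K ⧸ Subgroup.center K) = (y : K ⧸ Subgroup.center K) ↔
      ⁅g, (y : G)⁆ ∈ (Subgroup.center K).map K.subtype := by
  have h1 : (conjQuot K).smul g (y : K ⧸ Subgroup.center K) =
      QuotientGroup.mk' (Subgroup.center K) (MulAut.conjNormal g y) := rfl
  rw [h1]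
  change QuotientGroup.mk' (Subgroup.center K) (MulAut.conjNormal g y) = QuotientGroup.mk' _ y ↔ _
  rw [← mul_inv_eq_one, ← map_inv, ← map_mul, QuotientGroup.mk'_apply, QuotientGroup.eq_one_iff,
    ← Subgroup.mem_map_iff_mem K.subtype_injective]
  rfl

variable (hK : Nat.card K = 32) (hZ : Nat.card (Subgroup.center K) = 2)
  (hC : Subgroup.centralizer (K : Set G) = ((Subgroup.center K).map K.subtype))
  (hker : ∀ g : G, (∀ y : K, ⁅g, (y : G)⁆ ∈ ((Subgroup.center K).map K.subtype)) → g ∈ K)

include hK hZ hC hker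

theorem card_Z : Nat.card ((Subgroup.center K).map K.subtype) = 2 := by
  rw [← Nat.card_congr ((Subgroup.center K).equivMapOfInjective K.subtype K.subtype_injective).toEquiv, hZ]

theorem mem_Z_comm {z : G} (hz : z ∈ ((Subgroup.center K).map K.subtype)) (g : G) : z * g = g * z := by
  have hn : (((Subgroup.center K).map K.subtype)).Normal := inferInstance
  have h1 : g * z * g⁻¹ ∈ ((Subgroup.center K).map K.subtype) := hn.conj_mem z hz g
  have h2 := card_Z hK hZ hC hker
  haveI := Fintype.ofFinite ((Subgroup.center K).map K.subtype)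
  rw [Nat.card_eq_two_iff' (1 : ((Subgroup.center K).map K.subtype))] at h2
  obtain ⟨t, -, huniq⟩ := h2
  rcases eq_or_ne z 1 with rfl | hz1
  · simp
  have e1 := huniq ⟨z, hz⟩ (fun e => hz1 (congrArg Subtype.val e))
  have e2 := huniq ⟨_, h1⟩ (fun e => hz1 (conj_eq_one_iff.1 (congrArg Subtype.val e)))
  have e3 : g * z * g⁻¹ = z := congrArg Subtype.val (e2.trans e1.symm)
  exact (mul_inv_eq_iff_eq_mul.1 e3).symm

/-- Subgroups between the centre and `K` normalised by an element of order five. -/
theorem inv_subgroup {x : G} (hx : orderOf x = 5) {W : Subgroup G} (hZW : ((Subgroup.center K).map K.subtype) ≤ W) (hWK : W ≤ K)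
    (hxW : x ∈ Subgroup.normalizer (W : Set G)) : W = K ∨ W = ((Subgroup.center K).map K.subtype) := by
  haveI : Fact (Nat.Prime 5) := ⟨by norm_num⟩
  haveI : Fact (Nat.Prime 2) := ⟨Nat.prime_two⟩
  have key : ∀ U : Subgroup G, x ∈ Subgroup.normalizer (U : Set G) →
      Nat.card U % 5 = Nat.card (U ⊓ Cg x : Subgroup G) % 5 := by
    intro U hU
    have hX : IsPGroup 5 (Subgroup.zpowers x) :=
      IsPGroup.of_card (n := 1) (by rw [Nat.card_zpowers, hx, pow_one])
    let _ : MulAction (Subgroup.zpowers x) U := MulAction.compHom U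
      (U.normalizerMonoidHom.comp (Subgroup.inclusion (Subgroup.zpowers_le.2 hU)))
    have h1 := hX.card_modEq_card_fixedPoints U
    have hconj : ∀ (s : Subgroup.zpowers x) (u : U), ((s • u : U) : G) = (s : G) * u * (s : G)⁻¹ :=
      fun s u => rfl
    have h2 : Nat.card (MulAction.fixedPoints (Subgroup.zpowers x) U) =
        Nat.card (U ⊓ Cg x : Subgroup G) := by
      refine Nat.card_congr ((Equiv.subtypeEquivRight fun u => ?_).trans
        (Equiv.subtypeSubtypeEquivSubtypeInter (· ∈ U) (· ∈ Cg x)))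
      constructor
      · intro h
        have h3 := congrArg Subtype.val (h ⟨x, Subgroup.mem_zpowers x⟩)
        rw [hconj] at h3
        exact Subgroup.mem_centralizer_singleton_iff.2 (mul_inv_eq_iff_eq_mul.1 h3).symm
      · intro h s
        refine Subtype.ext ?_
        rw [hconj]
        obtain ⟨k, hk⟩ := Subgroup.mem_zpowers_iff.1 s.2
        have hc : Commute x (u : G) := (Subgroup.mem_centralizer_singleton_iff.1 h).symm
        rw [← hk, (hc.zpow_left k).eq, mul_inv_cancel_right]
    rw [h2] at h1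
    exact h1
  have hdiv : ∀ U : Subgroup G, U ≤ K → ∃ i ≤ 5, Nat.card U = 2 ^ i := fun U hU => by
    have h : Nat.card U ∣ 2 ^ 5 := by
      rw [show (2 : ℕ) ^ 5 = Nat.card K by rw [hK]; norm_num]
      exact Subgroup.card_dvd_of_le hU
    exact (Nat.dvd_prime_pow Nat.prime_two).1 h
  have hfix : ∀ U : Subgroup G, U ≤ K → ((Subgroup.center K).map K.subtype) ≤ U → Nat.card U % 5 = 2 → U = K ∨ U = ((Subgroup.center K).map K.subtype) := by
    intro U hU hZU h
    obtain ⟨i, hi, he⟩ := hdiv U hU
    rw [he] at h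
    interval_cases i <;> norm_num at h
    · exact Or.inr (Subgroup.eq_of_le_of_card_ge hZU (by rw [card_Z hK hZ hC hker, he]; norm_num)).symm
    · exact Or.inl (Subgroup.eq_of_le_of_card_ge hU (by rw [hK, he]; norm_num))
  have hZc : ((Subgroup.center K).map K.subtype) ≤ K ⊓ Cg x := fun z hz => ⟨Subgroup.map_subtype_le _ hz,
    Subgroup.mem_centralizer_singleton_iff.2 (mem_Z_comm hK hZ hC hker hz x)⟩
  have hCK : K ⊓ Cg x = ((Subgroup.center K).map K.subtype) := by
    have h1 := key K (by rw [Subgroup.normalizer_eq_top]; trivial)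
    rcases hfix _ inf_le_left hZc (by rw [← h1, hK]) with h | h
    · exfalso
      have hxC : x ∈ Subgroup.centralizer (K : Set G) := Subgroup.mem_centralizer_iff.2 fun y hy =>
        Subgroup.mem_centralizer_singleton_iff.1 ((h.ge hy : y ∈ K ⊓ Cg x).2)
      rw [hC] at hxC
      have := Subgroup.orderOf_dvd_natCard _ hxC
      rw [hx, card_Z hK hZ hC hker] at this
      norm_num at this
    · exact h
  refine hfix W hWK hZW ?_
  have h2 : W ⊓ Cg x = ((Subgroup.center K).map K.subtype) :=
    le_antisymm (hCK ▸ inf_le_inf_right _ hWK) (le_inf hZW (hZc.trans inf_le_right))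
  rw [key W hxW, h2, card_Z hK hZ hC hker]

/-- Two-subgroups normalised by an element of order five. -/
theorem two_le_K {x : G} (hx : orderOf x = 5) {S : Subgroup G} (hS : IsPGroup 2 S)
    (hxS : x ∈ Subgroup.normalizer (S : Set G)) : S ≤ K := by
  haveI : Fact (Nat.Prime 2) := ⟨Nat.prime_two⟩
  let _ : MulAction G (K ⧸ Subgroup.center K) := conjQuot K
  have hB : 2 ∣ Nat.card (K ⧸ Subgroup.center K) := by
    have := Subgroup.card_eq_card_quotient_mul_card_subgroup (Subgroup.center K)
    rw [hK, hZ] at this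
    omega
  let q := QuotientGroup.mk' (Subgroup.center K)
  have hsmul : ∀ (g : G) (a : K), g • (q a) = q (MulAut.conjNormal g a) := fun g a => rfl
  let W : Subgroup G := Subgroup.map K.subtype
    { carrier := {y : K | ∀ s ∈ S, s • (q y) = q y}
      one_mem' := fun s _ => by rw [hsmul, map_one]
      mul_mem' := fun {a b} ha hb s hs => by
        have ea := ha s hs
        have eb := hb s hs
        rw [hsmul] at ea eb ⊢
        rw [map_mul, map_mul, ea, eb, ← map_mul]
      inv_mem' := fun {a} ha s hs => by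
        have ea := ha s hs
        rw [hsmul] at ea ⊢
        rw [map_inv, map_inv, ea, ← map_inv] }
  have hWmem : ∀ y : K, (y : G) ∈ W ↔ ∀ s ∈ S, s • (q y) = q y := fun y =>
    Subgroup.mem_map_iff_mem K.subtype_injective
  have hZW : ((Subgroup.center K).map K.subtype) ≤ W := by
    rintro _ ⟨z, hz, rfl⟩
    refine (hWmem z).2 fun s _ => ?_
    rw [show q z = q 1 from (QuotientGroup.eq_one_iff z).2 hz, hsmul, map_one]
  have hxW : x ∈ Subgroup.normalizer (W : Set G) := by
    have hfwd : ∀ w ∈ W, x * w * x⁻¹ ∈ W := by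
      rintro _ ⟨y, hy, rfl⟩
      have hy' : ∀ s ∈ S, s • (q y) = q y := hy
      show ((MulAut.conjNormal x y : K) : G) ∈ W
      refine (hWmem _).2 fun s hs => ?_
      have hs' : x⁻¹ * s * x ∈ S := (Subgroup.mem_normalizer_iff''.1 hxS s).1 hs
      rw [← hsmul x y, smul_smul, show s * x = x * (x⁻¹ * s * x) by group, ← smul_smul, hy' _ hs']
    rw [Subgroup.mem_normalizer_iff]
    intro w
    refine ⟨hfwd w, fun h => ?_⟩
    let f : W → W := fun a => ⟨x * (a : G) * x⁻¹, hfwd a a.2⟩
    have hf : Function.Injective f := fun a a' e => Subtype.ext (by simpa [f] using congrArg Subtype.val e)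
    obtain ⟨a, ha⟩ := Finite.surjective_of_injective hf ⟨_, h⟩
    have h1 : x * (a : G) * x⁻¹ = x * w * x⁻¹ := congrArg Subtype.val ha
    rw [← mul_left_cancel (mul_right_cancel h1)]
    exact a.2
  rcases inv_subgroup hK hZ hC hker hx hZW (Subgroup.map_subtype_le _) hxW with h | h
  · intro s hs
    exact hker s fun y => (conjQuot_fix s y).1 ((hWmem y).1 (h.ge y.2) s hs)
  · exfalso
    obtain ⟨b, hb, hne⟩ := hS.exists_fixed_point_of_prime_dvd_card_of_fixed_point
      (α := K ⧸ Subgroup.center K) hB (a := q 1)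
      (fun s => by show (s : G) • q 1 = q 1; rw [hsmul, map_one])
    obtain ⟨y, rfl⟩ := QuotientGroup.mk'_surjective _ b
    have hyW : (y : G) ∈ W := (hWmem y).2 fun s hs => hb ⟨s, hs⟩
    rw [h, ← Subgroup.coe_subtype K, Subgroup.mem_map_iff_mem K.subtype_injective] at hyW
    exact hne (((QuotientGroup.eq_one_iff y).2 hyW).trans (map_one q).symm).symm

/-- Elements of order five have small centralisers. -/
theorem card_cent_five {a : ℕ} (hG : Nat.card G = 2 ^ a * 5) {x : G} (hx : orderOf x = 5) :
    Nat.card (Cg x) ≤ 10 := by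
  haveI : Fact (Nat.Prime 2) := ⟨Nat.prime_two⟩
  obtain ⟨P⟩ : Nonempty (Sylow 2 (Cg x)) := inferInstance
  have hdvd : Nat.card (Cg x) ∣ 2 ^ a * 5 := hG ▸ Subgroup.card_subgroup_dvd_card _
  have hP : (P : Subgroup (Cg x)).map (Cg x).subtype ≤ ((Subgroup.center K).map K.subtype) := by
    have hxN : x ∈ Subgroup.normalizer (((P : Subgroup (Cg x)).map (Cg x).subtype : Subgroup G) : Set G) := by
      refine Subgroup.centralizer_le_normalizer _ (Subgroup.mem_centralizer_iff.2 ?_)
      rintro _ ⟨y, -, rfl⟩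
      exact Subgroup.mem_centralizer_singleton_iff.1 y.2
    have h1 := two_le_K hK hZ hC hker hx (P.2.map _) hxN
    intro g hg
    have hgc : g ∈ Cg x := Subgroup.map_subtype_le _ hg
    have h2 : K ⊓ Cg x = K ∨ K ⊓ Cg x = ((Subgroup.center K).map K.subtype) := by
      refine inv_subgroup hK hZ hC hker hx ?_ inf_le_left ?_
      · intro z hz
        exact ⟨Subgroup.map_subtype_le _ hz,
          Subgroup.mem_centralizer_singleton_iff.2 (mem_Z_comm hK hZ hC hker hz x)⟩
      · have hn : (K ⊓ Cg x : Subgroup G).subgroupOf (Cg x) |>.Normal := by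
          rw [Subgroup.inf_subgroupOf_right]; infer_instance
        refine (Subgroup.normal_subgroupOf_iff_le_normalizer inf_le_right).1 hn ?_
        exact Subgroup.mem_centralizer_singleton_iff.2 rfl
    rcases h2 with h2 | h2
    · exfalso
      have hxC : x ∈ Subgroup.centralizer (K : Set G) := Subgroup.mem_centralizer_iff.2 fun y hy =>
        Subgroup.mem_centralizer_singleton_iff.1 ((h2.ge hy : y ∈ K ⊓ Cg x).2)
      rw [hC] at hxC
      have := Subgroup.orderOf_dvd_natCard _ hxC
      rw [hx, card_Z hK hZ hC hker] at this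
      norm_num at this
    · exact h2.le ⟨h1 hg, hgc⟩
  have hle := Subgroup.card_le_of_le hP
  rw [card_Z hK hZ hC hker, ← Nat.card_congr ((P : Subgroup (Cg x)).equivMapOfInjective _
    (Cg x).subtype_injective).toEquiv] at hle
  have hP2 := P.card_eq_multiplicity
  rw [hP2] at hle
  set N := Nat.card (Cg x)
  have hN : N ≠ 0 := Nat.card_pos.ne'
  obtain ⟨m, hm⟩ : 2 ^ N.factorization 2 ∣ N := Nat.ordProj_dvd N 2
  have hm2 : ¬ 2 ∣ m := by
    have := Nat.not_dvd_ordCompl Nat.prime_two hN
    rwa [show N / 2 ^ N.factorization 2 = m from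
      Nat.div_eq_of_eq_mul_left (pow_pos two_pos _) (hm.trans (mul_comm _ _))] at this
  have hcop : m.Coprime (2 ^ a) := ((Nat.prime_two.coprime_iff_not_dvd.2 hm2).symm).pow_right a
  have hm5 : m ∣ 5 := hcop.dvd_of_dvd_mul_left ((Dvd.intro_left _ hm.symm).trans hdvd)
  have := Nat.le_of_dvd (by norm_num) hm5
  calc N = 2 ^ N.factorization 2 * m := hm
    _ ≤ 2 * 5 := Nat.mul_le_mul hle this

/-- The bound on the order. -/
theorem card_le_640 {a : ℕ} (ha : a ≤ 9) (hG : Nat.card G = 2 ^ a * 5) : Nat.card G ≤ 640 := by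
  haveI : Fact (Nat.Prime 5) := ⟨by norm_num⟩
  haveI : Fact (Nat.Prime 2) := ⟨Nat.prime_two⟩
  obtain ⟨x, hx⟩ := exists_prime_orderOf_dvd_card' (G := G) 5 (hG ▸ dvd_mul_left 5 _)
  obtain ⟨P, hP⟩ := (IsPGroup.of_card (p := 5) (n := 1)
    (by rw [Nat.card_zpowers, hx, pow_one]) : IsPGroup 5 (Subgroup.zpowers x)).exists_le_sylow
  have hcop : ¬ 5 ∣ 2 ^ a := fun h => by
    have := (Nat.prime_five).dvd_of_dvd_pow h
    norm_num at this
  have hPcard : Nat.card P = 5 := by
    obtain ⟨n, hn⟩ := IsPGroup.iff_card.1 P.2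
    have h5 : (5 : ℕ) ^ n ∣ 2 ^ a * 5 := hn ▸ hG ▸ Subgroup.card_subgroup_dvd_card _
    have hn1 : n ≤ 1 := by
      by_contra hlt
      have h25 : 5 * 5 ∣ 2 ^ a * 5 := (Dvd.intro (5 ^ (n - 2)) (by rw [← sq, ← pow_add]; congr 1; omega)).trans h5
      exact hcop (Nat.dvd_of_mul_dvd_mul_right (by norm_num) h25)
    have h1 := Subgroup.card_le_of_le hP
    rw [Nat.card_zpowers, hx, hn] at h1
    interval_cases n <;> simp_all
  have hPeq : Subgroup.zpowers x = P :=
    Subgroup.eq_of_le_of_card_ge hP (by rw [hPcard, Nat.card_zpowers, hx])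
  set N := Subgroup.normalizer ((P : Subgroup G) : Set G) with hNdef
  have hCN : Nat.card N ≤ 40 := by
    let f : N →* MulAut (P : Subgroup G) := (P : Subgroup G).normalizerMonoidHom
    have hker' : Nat.card f.ker ≤ 10 := by
      refine le_trans (Nat.card_le_card_of_injective (fun a => (⟨((a : N) : G), ?_⟩ : Cg x))
        fun a b e => Subtype.ext (Subtype.ext (congrArg (fun z : Cg x => (z : G)) e))) (card_cent_five hK hZ hC hker hG hx)
      have h1 := MulEquiv.congr_fun (MonoidHom.mem_ker.1 a.2)
        ⟨x, hP (Subgroup.mem_zpowers x)⟩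
      have h2 : ((a : N) : G) * x * ((a : N) : G)⁻¹ = x := congrArg Subtype.val h1
      exact Subgroup.mem_centralizer_singleton_iff.2 (mul_inv_eq_iff_eq_mul.1 h2)
    have hrange : Nat.card f.range ≤ 4 := by
      haveI : IsCyclic (P : Subgroup G) := isCyclic_of_prime_card hPcard
      refine (Subgroup.card_le_card_group _).trans ?_
      rw [IsCyclic.card_mulAut, hPcard]
      rfl
    rw [← f.ker.card_mul_index, Subgroup.index_ker]
    exact le_trans (Nat.mul_le_mul hker' hrange) (by norm_num)
  have hNmul : Nat.card N * N.index = Nat.card G := N.card_mul_index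
  rw [show N.index = Nat.card (Sylow 5 G) from (Sylow.card_eq_index_normalizer P).symm] at hNmul
  have hmod := card_sylow_modEq_one 5 G
  have hn5 : Nat.card (Sylow 5 G) ∣ 2 ^ a := by
    refine Nat.Coprime.dvd_of_dvd_mul_right ?_ (hG ▸ Dvd.intro_left _ hNmul)
    refine (Nat.Prime.coprime_iff_not_dvd (by norm_num)).2 ?_ |>.symm
    intro h
    have := Nat.modEq_zero_iff_dvd.2 h
    exact absurd (hmod.symm.trans this) (by decide)
  obtain ⟨i, hi, hie⟩ := (Nat.dvd_prime_pow Nat.prime_two).1 hn5
  rw [hie] at hNmul hmod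
  have hi9 : i ≤ 9 := hi.trans ha
  have hi8 : i ≠ 8 ∨ Nat.card G ≤ 640 := by
    by_contra hcon
    push Not at hcon
    obtain ⟨rfl, hbig⟩ := hcon
    have h10 : Nat.card N ≤ 10 := by
      have : Nat.card N * 2 ^ 8 ≤ 2 ^ 9 * 5 :=
        hNmul ▸ hG ▸ Nat.mul_le_mul_right _ (Nat.pow_le_pow_right two_pos ha)
      omega
    have hle : Cg x ≤ N := by
      rw [hNdef, ← hPeq, Subgroup.zpowers_eq_closure]
      refine le_trans (le_of_eq ?_) (Subgroup.centralizer_le_normalizer _)
      rw [Subgroup.centralizer_closure]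
    have hburn : N ≤ Subgroup.centralizer ((P : Subgroup G) : Set G) := by
      have hZN : ((Subgroup.center K).map K.subtype) ⊔ Subgroup.zpowers x ≤ Cg x := sup_le (fun z hz =>
        Subgroup.mem_centralizer_singleton_iff.2 (mem_Z_comm hK hZ hC hker hz x))
        (Subgroup.zpowers_le.2 (Subgroup.mem_centralizer_singleton_iff.2 rfl))
      have h2c : 2 ∣ Nat.card (Cg x) := card_Z hK hZ hC hker ▸
        Subgroup.card_dvd_of_le (le_sup_left.trans hZN)
      have h5c : 5 ∣ Nat.card (Cg x) := hx ▸ Subgroup.orderOf_dvd_natCard _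
        (Subgroup.mem_centralizer_singleton_iff.2 rfl)
      have h10c : 10 ≤ Nat.card (Cg x) :=
        Nat.le_of_dvd Nat.card_pos ((by norm_num : Nat.Coprime 2 5).mul_dvd_of_dvd_of_dvd h2c h5c)
      have hNeq : Cg x = N := Subgroup.eq_of_le_of_card_ge hle (h10.trans h10c)
      rw [← hNeq, ← hPeq, Subgroup.zpowers_eq_closure, Subgroup.centralizer_closure]
    have hcompl := MonoidHom.ker_transferSylow_isComplement' P hburn
    set L := (MonoidHom.transferSylow P hburn).ker
    have hL := hcompl.card_mul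
    rw [hPcard, hG] at hL
    have hL2 : Nat.card L = 2 ^ a := Nat.eq_of_mul_eq_mul_right (by norm_num) hL
    have h1 := two_le_K hK hZ hC hker hx (IsPGroup.of_card hL2)
      (show x ∈ Subgroup.normalizer (L : Set G) by rw [Subgroup.normalizer_eq_top]; trivial)
    have h2 := Subgroup.card_le_of_le h1
    rw [hL2, hK] at h2
    omega
  rcases hi8 with hi8 | h
  · interval_cases i <;> first | omega | (exact absurd hmod (by decide))
  · exact h

/-- The class number bound. -/
theorem classes_eightyone {a : ℕ} (ha : a ≤ 9) (hG : Nat.card G = 2 ^ a * 5) :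
    Nat.card (ConjClasses G) ≤ 2 + Nat.card G / 10 := by
  haveI : Fact (Nat.Prime 5) := ⟨by norm_num⟩
  haveI : Fact (Nat.Prime 2) := ⟨Nat.prime_two⟩
  have hKdvd : 32 ∣ 2 ^ a * 5 := hK ▸ hG ▸ Subgroup.card_subgroup_dvd_card K
  have h160 : 160 ≤ Nat.card G := by
    rw [hG]
    have : 32 ≤ 2 ^ a := Nat.le_of_dvd (pow_pos two_pos a)
      ((by norm_num : Nat.Coprime 32 5).dvd_of_dvd_mul_right hKdvd)
    omega
  have hcent : ∀ g, g ∉ ((Subgroup.center K).map K.subtype) → Nat.card (Cg g) * 10 ≤ Nat.card G := by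
    intro g hg
    by_cases h5 : 5 ∣ Nat.card (Cg g)
    · obtain ⟨⟨y, hy⟩, hyo⟩ := exists_prime_orderOf_dvd_card' 5 h5
      rw [← Subgroup.orderOf_coe] at hyo
      simp only at hyo
      have hgy : g ∈ Cg y := Subgroup.mem_centralizer_singleton_iff.2
        (Subgroup.mem_centralizer_singleton_iff.1 hy).symm
      have hc := card_cent_five hK hZ hC hker hG hyo
      have hgo : orderOf g ∣ Nat.card (Cg y) := Subgroup.orderOf_dvd_natCard _ hgy
      have hcd : Nat.card (Cg y) ∣ 2 ^ a * 5 := hG ▸ Subgroup.card_subgroup_dvd_card _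
      have hg5 : 5 ∣ orderOf g := by
        by_contra hn
        obtain ⟨i, -, hi⟩ := (Nat.dvd_prime_pow Nat.prime_two).1
          (((Nat.Prime.coprime_iff_not_dvd (by norm_num)).2 hn).symm.dvd_of_dvd_mul_right (hgo.trans hcd))
        have hS : IsPGroup 2 (Subgroup.zpowers g) := IsPGroup.of_card (n := i) (by rw [Nat.card_zpowers, hi])
        have hyN : y ∈ Subgroup.normalizer ((Subgroup.zpowers g : Subgroup G) : Set G) := by
          refine Subgroup.centralizer_le_normalizer _ ?_
          rw [Subgroup.zpowers_eq_closure, Subgroup.centralizer_closure]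
          exact hy
        have hgK : g ∈ K := two_le_K hK hZ hC hker hyo hS hyN (Subgroup.mem_zpowers g)
        have hZc : ((Subgroup.center K).map K.subtype) ≤ K ⊓ Cg y := fun z hz => ⟨Subgroup.map_subtype_le _ hz,
          Subgroup.mem_centralizer_singleton_iff.2 (mem_Z_comm hK hZ hC hker hz y)⟩
        rcases inv_subgroup hK hZ hC hker hyo hZc inf_le_left (by
            refine (Subgroup.normal_subgroupOf_iff_le_normalizer inf_le_right).1
              (by rw [Subgroup.inf_subgroupOf_right]; infer_instance) ?_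
            exact Subgroup.mem_centralizer_singleton_iff.2 rfl) with h | h
        · have hyC : y ∈ Subgroup.centralizer (K : Set G) := Subgroup.mem_centralizer_iff.2 fun w hw =>
            Subgroup.mem_centralizer_singleton_iff.1 ((h.ge hw : w ∈ K ⊓ Cg y).2)
          rw [hC] at hyC
          have := Subgroup.orderOf_dvd_natCard _ hyC
          rw [hyo, card_Z hK hZ hC hker] at this
          norm_num at this
        · exact hg (h.le ⟨hgK, hgy⟩)
      obtain ⟨j, hj⟩ := hg5
      have hg0 : orderOf g ≠ 0 := (orderOf_pos g).ne'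
      have hj0 : j ≠ 0 := fun e => hg0 (by rw [hj, e, mul_zero])
      have ho : orderOf (g ^ j) = 5 := by
        rw [orderOf_pow_of_dvd hj0 (Dvd.intro_left _ hj.symm), hj,
          Nat.mul_div_cancel _ (Nat.pos_of_ne_zero hj0)]
      have hle : Cg g ≤ Cg (g ^ j) := fun w hw => Subgroup.mem_centralizer_singleton_iff.2
        (Commute.pow_right (Subgroup.mem_centralizer_singleton_iff.1 hw) j)
      have := (Subgroup.card_le_of_le hle).trans (card_cent_five hK hZ hC hker hG ho)
      omega
    · have hd : Nat.card (Cg g) ∣ 2 ^ a * 5 := hG ▸ Subgroup.card_subgroup_dvd_card _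
      have hd2 := ((Nat.Prime.coprime_iff_not_dvd (by norm_num)).2 h5).symm.dvd_of_dvd_mul_right hd
      obtain ⟨i, hi, hie⟩ := (Nat.dvd_prime_pow Nat.prime_two).1 hd2
      have hia : i < a := by
        refine lt_of_le_of_ne hi fun e => ?_
        subst e
        obtain ⟨P, hP⟩ := (IsPGroup.of_card hie : IsPGroup 2 (Cg g)).exists_le_sylow
        obtain ⟨n, hn⟩ := IsPGroup.iff_card.1 P.2
        have hn2 : 2 ^ n ∣ 2 ^ i * 5 := hn ▸ hG ▸ Subgroup.card_subgroup_dvd_card _
        have hn3 : 2 ^ n ∣ 2 ^ i :=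
          ((by norm_num : Nat.Coprime 2 5).pow_left n).dvd_of_dvd_mul_right hn2
        have hPeq : Cg g = P := Subgroup.eq_of_le_of_card_ge hP
          (by rw [hn, hie]; exact Nat.le_of_dvd (pow_pos two_pos i) hn3)
        have hKP : K ≤ Cg g := hPeq ▸
          (IsPGroup.of_card (n := 5) (by rw [hK]; norm_num)).le_sylow_of_normal P
        exact hg (hC ▸ Subgroup.mem_centralizer_iff.2 fun w hw =>
          Subgroup.mem_centralizer_singleton_iff.1 (hKP hw))
      rw [hie, hG, show 2 ^ i * 10 = 2 ^ (i + 1) * 5 by rw [pow_succ]; ring]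
      exact Nat.mul_le_mul_right _ (Nat.pow_le_pow_right two_pos hia)
  have hb := classes_mul_card_le ((Subgroup.center K).map K.subtype) ⊤ le_top (Nat.card G / 10) 0
    (fun g _ hg => (Nat.le_div_iff_mul_le (by norm_num)).2 (hcent g hg))
    (fun g hg => absurd (Subgroup.mem_top g) hg)
  rw [Subgroup.card_top, Nat.sub_self, zero_mul, add_zero, card_Z hK hZ hC hker] at hb
  refine Nat.le_of_mul_le_mul_right (hb.trans ?_) (by omega : 0 < Nat.card G)
  rw [add_mul, mul_comm (Nat.card G / 10)]
  exact Nat.add_le_add_left (Nat.mul_le_mul_right _ (Nat.sub_le _ _)) _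

end H23.KGV
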