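import Cfsg.Agent.H58.SolvableTransitive

/-!
The exceptional transitive solvable groups on `3 ^ 4` points: the extraspecial normal subgroup.
-/

set_option autoImplicit false
set_option linter.style.haveILetI false
set_option linter.unusedSectionVars false
set_option maxHeartbeats 1000000

namespace H23.KGV

open H58 H58.TransLin H58.RegLin Polynomial
open scoped commutatorElement

variable {V : Type*} [AddCommGroup V] [Module (ZMod 3) V] [Finite V]
  {H : Subgroup (V ≃ₗ[ZMod 3] V)}

local notation "p" => (3 : ℕ)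

/-- The centraliser of `K` is central of order two and only `K` acts trivially on `K / Z(K)`. -/
theorem symp_81_core [Nontrivial V] [Fact (Nat.Prime 3)] (htr : Trans H) (hI : NoAbIrr H)
    (K : Subgroup H) [K.Normal] (hcomm : ∀ a b : K, ⁅a, b⁆ ∈ Subgroup.center K)
    (hpow : ∀ a : K, a ^ 2 ∈ Subgroup.center K) (hna : ¬ IsMulCommutative K) {m : ℕ}
    (hm : (Subgroup.center K).index = 2 ^ (2 * m)) (hn : Module.finrank (ZMod p) V = 2 ^ m)
    (hk1 : (Subgroup.centralizer (((Subgroup.center K).map K.subtype : Subgroup H) : Set H)).index ≤ 1)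
    (hZcard : Nat.card ((Subgroup.center K).map K.subtype) ∣ 2) :
    Nat.card (Subgroup.center K) = 2 ∧
      Subgroup.centralizer (K : Set H) = (Subgroup.center K).map K.subtype ∧
      (∀ g : H, (∀ y : K, MulAut.conjNormal g y * y⁻¹ ∈ Subgroup.center K) → g ∈ K) ∧
      K.index ∣ Nat.card (Matrix.symplecticGroup (Fin m) (ZMod 2)) := by
  classical
  haveI := RegLin.finite_group (H := H)
  haveI : Fact (Nat.Prime 2) := ⟨Nat.prime_two⟩
  obtain ⟨-, -, -, -, -, -, W, hW, -⟩ :=
    abelian_facts htr hI ((Subgroup.center K).map K.subtype) inferInstance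
  haveI := isCyclic_center htr hW
  have hZc : ∀ (g : H) (y : K), y ∈ Subgroup.center K → g * y * g⁻¹ = (y : H) := by
    intro g y hy
    have htop : Subgroup.centralizer (((Subgroup.center K).map K.subtype : Subgroup H) : Set H) = ⊤ := by
      rw [← Subgroup.index_eq_one]
      have := Subgroup.index_ne_zero_of_finite
        (H := Subgroup.centralizer (((Subgroup.center K).map K.subtype : Subgroup H) : Set H))
      omega
    have hg : g ∈ Subgroup.centralizer (((Subgroup.center K).map K.subtype : Subgroup H) : Set H) :=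
      htop ▸ Subgroup.mem_top g
    rw [← Subgroup.mem_centralizer_iff.mp hg y ⟨y, hy, rfl⟩, mul_inv_cancel_right]
  obtain ⟨c, hc, hgen⟩ := exists_commutator_gen hcomm hpow inferInstance hna
  have hr : ∀ a b : K, ⁅a, b⁆ ^ 2 = 1 := fun a b => by
    rw [← SympType.commutator_pow_left hcomm, commutatorElement_eq_one_iff_mul_comm]
    exact (Subgroup.mem_center_iff.mp (hpow a) b).symm
  have hcK : c ∈ Subgroup.center K := by
    obtain ⟨a, b, hab⟩ : ∃ a b : K, ⁅a, b⁆ ≠ 1 := by
      by_contra h
      push Not at h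
      exact hna ⟨⟨fun a b => commutatorElement_eq_one_iff_mul_comm.mp (h a b)⟩⟩
    have : Subgroup.zpowers ⁅a, b⁆ = Subgroup.zpowers c :=
      Subgroup.eq_of_le_of_card_ge (Subgroup.zpowers_le.mpr (hgen a b))
        (by rw [Nat.card_zpowers, Nat.card_zpowers, hc, orderOf_eq_prime (hr a b) hab])
    exact (Subgroup.zpowers_le.mpr (hcomm a b)) (this ▸ Subgroup.mem_zpowers c)
  let conjK : H →* MulAut K := MulAut.conjNormal
  obtain ⟨m', hm', ⟨Θ, hΘ⟩, hinner⟩ := SympType.exists_hom hcomm hpow hc hgen conjK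
    (fun g => Subtype.ext (hZc g c hcK))
  obtain rfl : m' = m := by
    have := Nat.pow_right_injective (le_refl 2) (hm'.symm.trans hm)
    omega
  set C := Subgroup.centralizer (K : Set H) with hC
  have hscal := (index_center_mul_le htr hcomm hW).2 (by rw [hm, hn, ← pow_mul, mul_comm])
  -- the centraliser consists of scalars
  have hC1 : Nat.card C ∣ p - 1 := by
    haveI := H58.RegLin.centralizer_normal (M := K)
    have hCc : IsMulCommutative C := ⟨⟨fun a b => Subtype.ext (Subtype.ext (LinearEquiv.ext fun v =>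
      LinearMap.congr_fun (hscal a a.2 (toEnd H (b : H))).eq v))⟩⟩
    obtain ⟨v, hv⟩ := exists_ne (0 : V)
    have hinv : ∀ (u : V) (g : H), g ∈ C → ∃ e : ZMod p, (g : V ≃ₗ[ZMod p] V) u = e • u := by
      intro u g hg
      by_cases hu : u = 0
      · exact ⟨0, by simp [hu]⟩
      obtain ⟨l₀, hl₀⟩ : ∃ l₀ : V →ₗ[ZMod p] ZMod p, l₀ u ≠ 0 := by
        by_contra h
        push Not at h
        exact hu ((Module.forall_dual_apply_eq_zero_iff (ZMod p) u).mp h)
      let l := (l₀ u)⁻¹ • l₀
      have hl : l u = 1 := by simp [l, hl₀]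
      have := LinearMap.congr_fun (hscal g hg (l.smulRight u)).eq u
      simp only [Module.End.mul_apply, LinearMap.smulRight_apply, hl, one_smul, toEnd_apply] at this
      exact ⟨_, this⟩
    obtain ⟨W', hle', hW'⟩ := exists_minInv C (Submodule.span (ZMod p) {v})
      (by simpa using hv) (fun g hg u hu => by
        obtain ⟨e, he⟩ := hinv u g hg
        rw [he]; exact Submodule.smul_mem _ e hu)
    haveI : Nontrivial W' := Submodule.nontrivial_iff_ne_bot.mpr hW'.1
    have h1 : Module.finrank (ZMod p) W' = 1 :=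
      le_antisymm ((Submodule.finrank_mono hle').trans (finrank_span_singleton hv).le) Module.finrank_pos
    have := (cyclic_dvd htr hCc hW').2.1
    rwa [h1, pow_one] at this
  -- the kernel
  have hker : ∀ g : H, (∀ y : K, conjK g y * y⁻¹ ∈ Subgroup.center K) → g ∈ K ⊔ C := by
    intro g hg
    have hd : ∀ y : K, conjK g y * y⁻¹ ∈ Subgroup.center K := hg
    have hd2 : ∀ y : K, conjK g y * y⁻¹ ∈ Subgroup.zpowers c := by
      intro y
      have hmul : ∀ j : ℕ, conjK g (y ^ j) * (y ^ j)⁻¹ = (conjK g y * y⁻¹) ^ j := by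
        intro j
        induction j with
        | zero => simp
        | succ j ih =>
          have hc' := Subgroup.mem_center_iff.mp (hd y) ((y ^ j)⁻¹)
          calc conjK g (y ^ (j + 1)) * (y ^ (j + 1))⁻¹
              = conjK g (y ^ j) * ((conjK g y * y⁻¹) * (y ^ j)⁻¹) := by
                rw [pow_succ, map_mul, _root_.mul_inv_rev]; simp only [mul_assoc]
            _ = conjK g (y ^ j) * (y ^ j)⁻¹ * (conjK g y * y⁻¹) := by rw [← hc', mul_assoc]
            _ = (conjK g y * y⁻¹) ^ (j + 1) := by rw [ih, pow_succ]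
      have h2 : (conjK g y * y⁻¹) ^ 2 = 1 := by
        rw [← hmul, show conjK g (y ^ 2) = y ^ 2 from Subtype.ext (hZc g _ (hpow y)), mul_inv_cancel]
      by_cases h1 : conjK g y * y⁻¹ = 1
      · rw [h1]; exact one_mem _
      set d : Subgroup.center K := ⟨_, hd y⟩
      set c' : Subgroup.center K := ⟨c, hcK⟩
      have hd' : orderOf d = 2 := by rw [← Subgroup.orderOf_coe]; exact orderOf_eq_prime h2 h1
      have hc'' : orderOf c' = 2 := by rw [← Subgroup.orderOf_coe]; exact hc
      have hz : Subgroup.zpowers d = Subgroup.zpowers c' := by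
        letI := IsCyclic.commGroup (α := Subgroup.center K)
        have key : ∀ e : Subgroup.center K, orderOf e = 2 →
            Subgroup.zpowers e = (powMonoidHom 2 : Subgroup.center K →* Subgroup.center K).ker := fun e he => by
          refine Subgroup.eq_of_le_of_card_ge (Subgroup.zpowers_le.mpr (MonoidHom.mem_ker.mpr (show e ^ 2 = 1 by rw [← he, pow_orderOf_eq_one]))) ?_
          rw [IsCyclic.card_powMonoidHom_ker, Nat.card_zpowers, he]
          exact Nat.le_of_dvd two_pos (Nat.gcd_dvd_right _ _)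
        rw [key d hd', key c' hc'']
      obtain ⟨j, hj⟩ := Subgroup.mem_zpowers_iff.mp (hz ▸ Subgroup.mem_zpowers d : d ∈ Subgroup.zpowers c')
      exact Subgroup.mem_zpowers_iff.mpr ⟨j, congrArg Subtype.val hj⟩
    let f : K →* Subgroup.zpowers c :=
      MonoidHom.mk' (fun y => ⟨conjK g y * y⁻¹, hd2 y⟩) fun a b => Subtype.ext (by
        show conjK g (a * b) * (a * b)⁻¹ = (conjK g a * a⁻¹) * (conjK g b * b⁻¹)
        have hc' := Subgroup.mem_center_iff.mp (hd b) a⁻¹
        calc conjK g (a * b) * (a * b)⁻¹ = conjK g a * ((conjK g b * b⁻¹) * a⁻¹) := by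
              rw [map_mul, _root_.mul_inv_rev]; simp only [mul_assoc]
          _ = conjK g a * a⁻¹ * (conjK g b * b⁻¹) := by rw [← hc', mul_assoc])
    obtain ⟨a, ha⟩ := hinner f fun y hy => MonoidHom.mem_ker.mpr (Subtype.ext (by
      show conjK g y * y⁻¹ = 1
      rw [show conjK g y = y from Subtype.ext (hZc g y hy), mul_inv_cancel]))
    have hgc : (a : H)⁻¹ * g ∈ C := by
      rw [hC, Subgroup.mem_centralizer_iff]
      intro y hy
      have h1 : g * y * g⁻¹ * y⁻¹ = (a : H) * y * (a : H)⁻¹ * y⁻¹ :=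
        congrArg Subtype.val (ha ⟨y, hy⟩)
      have h2 : g * y * g⁻¹ = (a : H) * y * (a : H)⁻¹ := mul_right_cancel h1
      calc y * ((a : H)⁻¹ * g) = (a : H)⁻¹ * ((a : H) * y * (a : H)⁻¹) * g := by group
        _ = (a : H)⁻¹ * g * y := by rw [← h2]; group
    have := Subgroup.mul_mem _ (Subgroup.mem_sup_left (T := C) a.2) (Subgroup.mem_sup_right (S := K) hgc)
    simpa using this
  have hZ2 : Nat.card (Subgroup.center K) = 2 := by
    have h1 : Nat.card (Subgroup.center K) ∣ 2 := by
      rwa [Nat.card_congr ((Subgroup.center K).equivMapOfInjective K.subtype K.subtype_injective).toEquiv]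
    have h2 : 1 < Nat.card (Subgroup.center K) := by
      have : 2 ≤ Nat.card (Subgroup.zpowers c) := by rw [Nat.card_zpowers, hc]
      have := Subgroup.card_le_of_le (Subgroup.zpowers_le.2 hcK : Subgroup.zpowers c ≤ Subgroup.center K)
      omega
    exact Nat.le_antisymm (Nat.le_of_dvd two_pos h1) h2
  have hCeq : (Subgroup.center K).map K.subtype = C := by
    refine Subgroup.eq_of_le_of_card_ge ?_ ?_
    · rintro _ ⟨y, hy, rfl⟩
      rw [hC, Subgroup.mem_centralizer_iff]
      exact fun b hb => congrArg Subtype.val (Subgroup.mem_center_iff.mp hy ⟨b, hb⟩)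
    · rw [← Nat.card_congr ((Subgroup.center K).equivMapOfInjective K.subtype K.subtype_injective).toEquiv, hZ2]
      exact Nat.le_of_dvd two_pos hC1
  have hCK : K ⊔ C = K := by
    rw [← hCeq]
    exact sup_eq_left.2 (Subgroup.map_subtype_le _)
  refine ⟨hZ2, hCeq.symm, fun g hg => hCK ▸ hker g hg, ?_⟩
  have h1 : K.index ∣ Θ.ker.index :=
    Subgroup.index_dvd_of_le fun g hg => hCK ▸ hker g (hΘ g hg)
  rw [Subgroup.index_ker] at h1
  exact h1.trans (Subgroup.card_subgroup_dvd_card _)

/-- The extraspecial subgroup of an exceptional group on `81` points. -/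
theorem symp_81 [Nontrivial V] [Fact (Nat.Prime 3)] (htr : Trans H) (hI : NoAbIrr H)
    (hsol : Group.IsSolvable H) (hn4 : Module.finrank (ZMod p) V = 4) :
    ∃ K : Subgroup H, K.Normal ∧ (∀ a b : K, ⁅a, b⁆ ∈ Subgroup.center K) ∧
      (∀ a : K, a ^ 2 ∈ Subgroup.center K) ∧ Nat.card K = 32 ∧ Nat.card (Subgroup.center K) = 2 ∧
      Subgroup.centralizer (K : Set H) = (Subgroup.center K).map K.subtype ∧
      (∀ g : H, (∀ y : K, ⁅g, (y : H)⁆ ∈ (Subgroup.center K).map K.subtype) → g ∈ K) ∧
      K.index ∣ 720 := by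
  haveI := RegLin.finite_group (H := H)
  haveI : Fact (Nat.Prime 5) := ⟨by norm_num⟩
  let z : ℕ := 5
  haveI : Fact z.Prime := ⟨by norm_num [z]⟩
  have hdc := dvd_card htr
  rw [hn4] at hdc
  have hzH : z ∣ Nat.card H := dvd_trans (by norm_num [z]) hdc
  have hz : Module.finrank (ZMod p) V < z := by rw [hn4]; norm_num [z]
  have hzA : ∀ A : Subgroup H, A.Normal → IsMulCommutative A → ¬ z ∣ Nat.card A := by
    intro A hAn hAc hd
    haveI := hAn
    obtain ⟨k, hk0, hkn, hkd, hcard, -, -⟩ := abelian_facts htr hI A hAc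
    rw [hn4] at hkn hkd
    have h5 := hd.trans hcard
    interval_cases k <;> first | (norm_num [z] at h5) | (norm_num at hkd)
  obtain ⟨x, hx⟩ := exists_prime_orderOf_dvd_card' z hzH
  obtain ⟨r₀, hr₀⟩ : ∃ r : Nat.Primes, x ∉ Subgroup.centralizer (Cfsg.pCore (r : ℕ) H : Set H) := by
    by_contra hno
    push Not at hno
    haveI := hsol
    have hxC : x ∈ Subgroup.centralizer (Cfsg.fittingSubgroup H : Set H) := by
      rw [H1.fittingSubgroup_eq_iSup_pCore, Subgroup.iSup_eq_closure, Subgroup.centralizer_closure,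
        Subgroup.mem_centralizer_iff]
      intro y hy
      obtain ⟨i, hi⟩ := Set.mem_iUnion.mp hy
      exact Subgroup.mem_centralizer_iff.mp (hno i) y hi
    have hxF := H1.centralizer_fitting_le_of_isSolvable inferInstance hxC
    -- hence `x` lies in an abelian normal subgroup
    haveI := H1.fittingSubgroup_normal (G := H)
    set F := Cfsg.fittingSubgroup H
    have hmem : (⟨x, hxF⟩ : F) ∈ Subgroup.center F :=
      Subgroup.mem_center_iff.mpr fun y => Subtype.ext (Subgroup.mem_centralizer_iff.mp hxC y y.2)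
    refine hzA ((Subgroup.center F).map F.subtype) inferInstance inferInstance ?_
    rw [← hx]
    exact Subgroup.orderOf_dvd_natCard _ ⟨_, hmem, rfl⟩
  obtain ⟨r, hr⟩ := r₀
  simp only at hr₀
  haveI := Fact.mk hr
  haveI := H1.pCore_normal' r H
  obtain ⟨K, ⟨hKn, hKp, hKx⟩, hmin⟩ := (Set.toFinite {K : Subgroup H | K.Normal ∧ IsPGroup r K ∧
    x ∉ Subgroup.centralizer (K : Set H)}).exists_minimal ⟨_, inferInstance, H1.isPGroup_pCore r H, hr₀⟩
  haveI := hKn
  have hsmall : ∀ L : Subgroup H, L.Normal → L < K → x ∈ Subgroup.centralizer (L : Set H) := by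
    intro L hLn hlt
    by_contra hc
    exact not_le_of_gt hlt (hmin ⟨hLn, hKp.to_le hlt.le, hc⟩ hlt.le)
  have hna : ¬ IsMulCommutative K := fun h => hKx (mem_centralizer_of_prime htr hI hx hz K h)
  have hzr : z ≠ r := by
    intro e
    haveI : Nontrivial K := by
      by_contra hnt
      rw [not_nontrivial_iff_subsingleton] at hnt
      exact hna ⟨⟨fun a b => Subsingleton.elim _ _⟩⟩
    haveI := hKp.center_nontrivial
    obtain ⟨n, hn⟩ := IsPGroup.iff_card.mp (hKp.to_subgroup (Subgroup.center K))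
    refine hzA ((Subgroup.center K).map K.subtype) inferInstance inferInstance ?_
    rw [Nat.card_congr ((Subgroup.center K).equivMapOfInjective K.subtype K.subtype_injective).symm.toEquiv, hn, e]
    refine dvd_pow_self r fun h0 => ?_
    rw [h0, pow_zero] at hn
    exact (Finite.one_lt_card (α := Subgroup.center K)).ne' hn
  have hKne : K ≠ ⊥ := fun e => hna (e ▸ inferInstance)
  set D := (frattini K).map K.subtype with hD
  have hDn : D.Normal := inferInstance
  have hxD := hsmall D hDn (frattini_map_lt hKne)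
  set M := Subgroup.centralizer (D : Set H) ⊓ K with hM
  have hMK : M = K := by
    by_contra hne
    haveI := H58.RegLin.centralizer_normal (M := D)
    have hxM := hsmall M inferInstance (lt_of_le_of_ne inf_le_right hne)
    refine hKx (Subgroup.mem_centralizer_iff.mpr fun y hy => ?_)
    set e := y⁻¹ * (x * y * x⁻¹) with he
    have heK : e ∈ K := K.mul_mem (K.inv_mem hy) (hKn.conj_mem y hy x)
    have heM : e ∈ M := by
      refine ⟨Subgroup.mem_centralizer_iff.mpr fun d hd => ?_, heK⟩
      have h1 : y * d * y⁻¹ ∈ D := hDn.conj_mem d hd y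
      have h2 : x * d * x⁻¹ = d := by rw [← Subgroup.mem_centralizer_iff.mp hxD d hd, mul_inv_cancel_right]
      have h3 : x * (y * d * y⁻¹) * x⁻¹ = y * d * y⁻¹ := by
        rw [← Subgroup.mem_centralizer_iff.mp hxD _ h1, mul_inv_cancel_right]
      calc d * e = (y⁻¹ * (y * d * y⁻¹)) * (x * y * x⁻¹) := by rw [he]; group
        _ = (y⁻¹ * (x * (y * d * y⁻¹) * x⁻¹)) * (x * y * x⁻¹) := by rw [h3]
        _ = e * (x * d * x⁻¹) := by rw [he]; group
        _ = e * d := by rw [h2]
    have hxe : x * e * x⁻¹ = e := by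
      rw [← Subgroup.mem_centralizer_iff.mp hxM e heM, mul_inv_cancel_right]
    have hiter : ∀ j : ℕ, x ^ j * y * (x ^ j)⁻¹ = y * e ^ j := by
      intro j
      induction j with
      | zero => simp
      | succ j ih =>
        have h4 : x * e ^ j * x⁻¹ = e ^ j := by rw [← conj_pow, hxe]
        calc x ^ (j + 1) * y * (x ^ (j + 1))⁻¹ = x * (x ^ j * y * (x ^ j)⁻¹) * x⁻¹ := by
              rw [pow_succ']; group
          _ = (x * y * x⁻¹) * (x * e ^ j * x⁻¹) := by rw [ih]; group
          _ = y * e * e ^ j := by rw [h4, he]; group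
          _ = y * e ^ (j + 1) := by rw [pow_succ', mul_assoc]
    have h5 := hiter z
    rw [← hx, pow_orderOf_eq_one, one_mul, inv_one, mul_one, left_eq_mul] at h5
    rw [hx] at h5
    obtain ⟨j, hj⟩ := hKp ⟨e, heK⟩
    have he1 : e = 1 := orderOf_eq_one_iff.mp (Nat.eq_one_of_dvd_coprimes
      (((Nat.coprime_primes (Fact.out : z.Prime) hr).mpr hzr).pow_right j)
      (orderOf_dvd_of_pow_eq_one h5) (orderOf_dvd_of_pow_eq_one (congrArg Subtype.val hj)))
    rw [he, inv_mul_eq_one] at he1
    exact (mul_inv_eq_iff_eq_mul.mp he1.symm).symm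
  obtain ⟨hcomm, hpow⟩ := center_of_frattini_le hKp fun d hd => Subgroup.mem_center_iff.mpr fun y => by
    have hy : (y : H) ∈ M := hMK.symm ▸ y.2
    exact Subtype.ext (Subgroup.mem_centralizer_iff.mp hy.1 d ⟨d, hd, rfl⟩).symm
  obtain ⟨m, k, hm0, hk0, hkn, hkd, hm, hle, hrd, hZcard, hidx⟩ := symp_data htr hI K hcomm hpow hna
  have hzle := prime_le htr hI K hKp hcomm hpow hna hx hzr hz hKx hm
  set n := Module.finrank (ZMod p) V
  have hrm : r ^ (2 * m) = (r ^ m) ^ 2 := by rw [← pow_mul, mul_comm]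
  have h6 : r ^ m ≤ n := by
    have : (r ^ m) ^ 2 ≤ n ^ 2 := hrm ▸ le_trans (Nat.le_mul_of_pos_right _ hk0) hle
    exact (Nat.pow_le_pow_iff_left two_ne_zero).mp this
  have hn : n = r ^ m := by omega
  have hk1 : k = 1 := by
    rw [hrm, hn] at hle
    have : (r ^ m) ^ 2 * k ≤ (r ^ m) ^ 2 * 1 := by rw [mul_one]; exact hle
    have := Nat.le_of_mul_le_mul_left this (pow_pos (pow_pos hr.pos m) 2)
    omega
  obtain rfl : r = 2 := by
    by_contra h2
    have hodd : Odd (r ^ m) := (hr.odd_of_ne_two h2).pow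
    have : z = r ^ m + 1 := by omega
    have h2z : z = 2 := ((Nat.dvd_prime (Fact.out : z.Prime)).mp
      (this ▸ even_iff_two_dvd.mp hodd.add_one)).resolve_left (by norm_num) |>.symm
    have : 1 ≤ k := hk0
    omega
  have hm2 : m = 2 := by
    refine Nat.pow_right_injective (le_refl 2) ?_
    show 2 ^ m = 2 ^ 2
    rw [← hn]; exact hn4
  subst hm2
  obtain ⟨h2, hC, hker, hidx720⟩ :=
    symp_81_core htr hI K hcomm hpow hna hm hn (hk1 ▸ hidx) (by rw [hk1] at hZcard; simpa using hZcard)
  refine ⟨K, hKn, hcomm, hpow, ?_, h2, hC, fun g hg => hker g fun y => ?_, ?_⟩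
  · rw [← (Subgroup.center K).card_mul_index, h2, hm]; norm_num
  · obtain ⟨w, hw, hwe⟩ := hg y
    have : MulAut.conjNormal g y * y⁻¹ = w := Subtype.ext hwe.symm
    rwa [this]
  · refine hidx720.trans ?_
    rw [H48.card_sp, ZMod.card, Fintype.card_fin]
    norm_num [Finset.prod_range_succ]

end H23.KGV
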