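import Cfsg.Agent.H23.KGV.Transitive
import Cfsg.Agent.S4956
import Cfsg.Agent.S4958

/-!
The `k(GV)` problem for a complement transitive on the non-identity elements.
-/

set_option autoImplicit false
set_option linter.style.haveILetI false
set_option linter.unusedSectionVars false

namespace H23.KGV

open scoped Classical

/-- A group acting by automorphisms on an elementary abelian group, as linear maps. -/
def conjRep (p : ℕ) {M : Type*} [CommGroup M] [Module (ZMod p) (Additive M)] {G : Type*} [Group G]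
    (φ : G →* MulAut M) : G →* (Additive M ≃ₗ[ZMod p] Additive M) where
  toFun g :=
    { (MulEquiv.toAdditive (φ g) : Additive M ≃+ Additive M) with
      map_smul' := fun c x =>
        ((MulEquiv.toAdditive (φ g) : Additive M ≃+ Additive M).toAddMonoidHom.toZModLinearMap p).map_smul c x }
  map_one' := LinearEquiv.ext fun x => by
    show Additive.ofMul (φ 1 (Additive.toMul x)) = x
    rw [map_one]; rfl
  map_mul' a b := LinearEquiv.ext fun x => by
    show Additive.ofMul (φ (a * b) (Additive.toMul x)) =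
      Additive.ofMul (φ a (φ b (Additive.toMul x)))
    rw [map_mul]; rfl

theorem conjRep_apply (p : ℕ) {M : Type*} [CommGroup M] [Module (ZMod p) (Additive M)] {G : Type*} [Group G]
    (φ : G →* MulAut M) (g : G) (x : Additive M) :
    Additive.toMul (conjRep p φ g x) = φ g (Additive.toMul x) := rfl

theorem main {X : Type*} [Group X] [Finite X] (p : ℕ) [Fact p.Prime] (V : Subgroup X) [V.Normal]
    (hVexp : ∀ v ∈ V, v ^ p = 1) (hidx : ¬ p ∣ V.index)
    (hself : Subgroup.centralizer (V : Set X) = V) (G : Subgroup X)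
    (hGV : Subgroup.IsComplement' V G)
    (htrans : ∀ v ∈ V, ∀ w ∈ V, v ≠ 1 → w ≠ 1 → ∃ g ∈ G, g * v * g⁻¹ = w) :
    Nat.card (ConjClasses X) ≤ Nat.card V ∧ (Nat.card (ConjClasses X) = Nat.card V →
      (IsCyclic G ∨ (Nat.card V = 8 ∧ Nat.card G = 21) ∨ (Nat.card V = 9 ∧ Nat.card G = 16))) := by
  rcases V.bot_or_exists_ne_one with rfl | ⟨v, hv, hv1⟩
  · have htop : (⊤ : Subgroup X) = ⊥ := by
      rw [← hself, eq_comm, eq_top_iff]
      intro x _
      exact Subgroup.mem_centralizer_iff.2 fun y hy => by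
        rw [Subgroup.mem_bot.1 hy]; simp
    haveI : Subsingleton X := ⟨fun a b => by
      have ha : a ∈ (⊥ : Subgroup X) := htop ▸ Subgroup.mem_top a
      have hb : b ∈ (⊥ : Subgroup X) := htop ▸ Subgroup.mem_top b
      rw [Subgroup.mem_bot.1 ha, Subgroup.mem_bot.1 hb]⟩
    exact ⟨classes_le_card.trans (le_of_eq (Nat.card_congr (Equiv.subtypeUnivEquiv fun x => by
      rw [Subsingleton.elim x 1]; exact one_mem _).symm)), fun _ => Or.inl inferInstance⟩
  have hab : ∀ a ∈ V, ∀ b ∈ V, a * b = b * a := fun a ha b hb => by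
    have h : b ∈ Subgroup.centralizer (V : Set X) := hself.symm ▸ hb
    exact Subgroup.mem_centralizer_iff.1 h a ha
  letI : CommGroup V :=
    { (inferInstance : Group V) with mul_comm := fun a b => Subtype.ext (hab a a.2 b b.2) }
  have hsm : ∀ x : Additive V, p • x = 0 := fun x => by
    apply Additive.toMul.injective
    rw [toMul_nsmul, toMul_zero]
    exact Subtype.ext (hVexp _ (Additive.toMul x).2)
  letI : Module (ZMod p) (Additive V) := AddCommGroup.zmodModule (n := p) hsm
  let ρ : G →* (Additive V ≃ₗ[ZMod p] Additive V) :=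
    conjRep p (MonoidHom.comp (MulAut.conjNormal : X →* MulAut V) G.subtype)
  have hρv : ∀ (g : G) (x : Additive V),
      ((Additive.toMul (ρ g x) : V) : X) = (g : X) * (Additive.toMul x : V) * (g : X)⁻¹ :=
    fun g x => rfl
  have hρ : Function.Injective ρ := by
    rw [← MonoidHom.ker_eq_bot_iff, Subgroup.eq_bot_iff_forall]
    intro g hg
    have hgC : (g : X) ∈ Subgroup.centralizer (V : Set X) := Subgroup.mem_centralizer_iff.2 fun y hy => by
      have h := hρv g (Additive.ofMul (⟨y, hy⟩ : V))
      rw [MonoidHom.mem_ker.1 hg] at h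
      have h' : y = (g : X) * y * (g : X)⁻¹ := h
      exact (mul_inv_eq_iff_eq_mul.1 h'.symm).symm
    rw [hself] at hgC
    have : (g : X) ∈ V ⊓ G := ⟨hgC, g.2⟩
    rw [hGV.disjoint.eq_bot, Subgroup.mem_bot] at this
    exact Subtype.ext this
  have htr : ∀ x y : Additive V, x ≠ 0 → y ≠ 0 → ∃ g : G, ρ g x = y := fun x y hx hy => by
    obtain ⟨g, hg, he⟩ := htrans _ (Additive.toMul x).2 _ (Additive.toMul y).2
      (fun e => hx (Additive.toMul.injective (Subtype.ext e)))
      (fun e => hy (Additive.toMul.injective (Subtype.ext e)))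
    exact ⟨⟨g, hg⟩, Additive.toMul.injective (Subtype.ext ((hρv _ _).trans he))⟩
  have hGcard : V.index = Nat.card G := hGV.symm.index_eq_card
  have hcop : ¬ p ∣ Nat.card G := hGcard ▸ hidx
  set x₀ : Additive V := Additive.ofMul (⟨v, hv⟩ : V) with hx₀def
  have hx₀ : x₀ ≠ 0 := fun e => hv1 (congrArg Subtype.val (congrArg Additive.toMul e))
  have hVcard : Nat.card (Additive V) = Nat.card V := Nat.card_congr Additive.toMul
  have hcop2 : (Nat.card V).Coprime (Nat.card G) := by
    have : Nat.card (Additive V) = p ^ Module.finrank (ZMod p) (Additive V) := by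
      rw [Module.natCard_eq_pow_finrank (K := ZMod p), Nat.card_zmod]
    rw [← hVcard, this]
    exact ((Fact.out : p.Prime).coprime_iff_not_dvd.2 hcop).pow_left _
  have hmemst : ∀ g : G, g ∈ stab ρ x₀ ↔ (g : X) ∈ Subgroup.centralizer ({v} : Set X) := fun g => by
    rw [mem_stab, Subgroup.mem_centralizer_singleton_iff, ← mul_inv_eq_iff_eq_mul]
    constructor
    · intro h
      exact (hρv g x₀).symm.trans (congrArg (fun z => ((Additive.toMul z : V) : X)) h)
    · intro h
      exact Additive.toMul.injective (Subtype.ext ((hρv g x₀).trans h))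
  have hk : Nat.card (ConjClasses X) =
      Nat.card (ConjClasses G) + Nat.card (ConjClasses (stab ρ x₀)) := by
    have hrep : ∀ w ∈ V, ∃! s, s ∈ ({1, v} : Finset X) ∧ ∃ g ∈ G, g * w * g⁻¹ = s := by
      intro w hw
      rcases eq_or_ne w 1 with rfl | hw1
      · refine ⟨1, ⟨by simp, 1, one_mem _, by simp⟩, ?_⟩
        rintro s ⟨-, g, -, rfl⟩
        simp
      · obtain ⟨g, hg, he⟩ := htrans w hw v hv hw1 hv1
        refine ⟨v, ⟨by simp, g, hg, he⟩, ?_⟩
        rintro s ⟨hs, g', -, he'⟩
        rcases Finset.mem_insert.1 hs with rfl | hs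
        · exact absurd (conj_eq_one_iff.1 he') hw1
        · exact Finset.mem_singleton.1 hs
    have h := Cfsg.Agent.S4956.result V hab G hGV hcop2 {1, v}
      (fun s hs => by
        rcases Finset.mem_insert.1 hs with rfl | hs
        · exact one_mem _
        · rw [Finset.mem_singleton.1 hs]; exact hv) hrep
    rw [Finset.sum_pair (Ne.symm hv1)] at h
    rw [h]
    congr 1
    · have e1 : G ⊓ Subgroup.centralizer ({1} : Set X) = G :=
        inf_eq_left.2 fun g _ => Subgroup.mem_centralizer_singleton_iff.2 (by simp)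
      rw [e1]
    · exact classes_congr (
        { toFun := fun g => ⟨⟨(g : X), g.2.1⟩, (hmemst _).2 g.2.2⟩
          invFun := fun g => ⟨((g : G) : X), (g : G).2, (hmemst _).1 g.2⟩
          left_inv := fun g => rfl
          right_inv := fun g => rfl
          map_mul' := fun a b => rfl } :
          (G ⊓ Subgroup.centralizer ({v} : Set X) : Subgroup X) ≃* stab ρ x₀)
  have hle : IsMulCommutative (stab ρ x₀) → Nat.card (ConjClasses X) ≤ Nat.card V := fun hc => by
    refine Cfsg.Agent.S4958.result p V hVexp hidx hself G hGV v hv fun a ha b hb => ?_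
    have h := hc.is_comm.comm (⟨⟨a, ha.1⟩, (hmemst _).2 ha.2⟩ : stab ρ x₀) ⟨⟨b, hb.1⟩, (hmemst _).2 hb.2⟩
    exact congrArg (fun z : stab ρ x₀ => ((z : G) : X)) h
  have hprime : (Nat.card (stab ρ x₀)).Prime → IsMulCommutative (stab ρ x₀) := fun h => by
    haveI := Fact.mk h
    haveI := isCyclic_of_prime_card (α := stab ρ x₀) rfl
    infer_instance
  have hst := card_eq_of_trans ρ htr hx₀
  rw [hVcard] at hst
  rcases trans_upper hρ hcop htr hx₀ with h | h | ⟨h8, h21⟩ | ⟨h9, h16⟩
  · rw [hVcard, ← hk] at h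
    exact ⟨h.le, fun e => absurd e h.ne⟩
  · haveI := h
    exact ⟨hle inferInstance, fun _ => Or.inl h⟩
  · rw [hVcard] at h8
    refine ⟨hle (hprime ?_), fun _ => Or.inr (Or.inl ⟨h8, h21⟩)⟩
    rw [h8, h21] at hst
    rw [show Nat.card (stab ρ x₀) = 3 by omega]
    norm_num
  · rw [hVcard] at h9
    refine ⟨hle (hprime ?_), fun _ => Or.inr (Or.inr ⟨h9, h16⟩)⟩
    rw [h9, h16] at hst
    rw [show Nat.card (stab ρ x₀) = 2 by omega]
    norm_num

end H23.KGV
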