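import Cfsg.Agent.H23.KGV.Dim2

/-!
A group of order prime to `p`, transitive on the non-zero vectors of a plane: classes of the group
plus classes of a vector stabiliser.
-/

set_option autoImplicit false
set_option linter.style.haveILetI false
set_option linter.unusedSectionVars false
set_option maxHeartbeats 1000000

namespace H23.KGV

open scoped Classical

universe u v

variable {p : ℕ} [Fact p.Prime] {V : Type v} [AddCommGroup V] [Module (ZMod p) V] [Finite V]
  {G : Type u} [Group G] [Finite G] {ρ : G →* (V ≃ₗ[ZMod p] V)}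

local notation "Cg" g:max => Subgroup.centralizer ({g} : Set G)

theorem scal_comm (hρ : Function.Injective ρ) {a : G} (ha : a ∈ scal ρ) (x : G) :
    a * x = x * a := by
  obtain ⟨α, hα⟩ := ha
  refine hρ (LinearEquiv.ext fun u => ?_)
  rw [map_mul, map_mul, LinearEquiv.mul_apply, LinearEquiv.mul_apply, hα, hα, map_smul]

theorem scal_fix (hρ : Function.Injective ρ) {a : G} (ha : a ∈ scal ρ) {x : V} (hx : x ≠ 0)
    (hfix : ρ a x = x) : a = 1 := by
  obtain ⟨α, hα⟩ := ha
  have h1 : α = 1 := smul_left_injective (ZMod p) hx (by simpa [hα x] using hfix)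
  refine hρ (LinearEquiv.ext fun u => ?_)
  rw [hα, h1, one_smul, map_one]; rfl

variable (hd : Module.finrank (ZMod p) V = 2) (hρ : Function.Injective ρ)

include hd hρ

/-- The fixed vectors: at most `p - 1` non-zero ones for a non-identity element. -/
theorem fix_pairs_le {x : V} (hx : x ≠ 0)
    (htr : ∀ x y : V, x ≠ 0 → y ≠ 0 → ∃ g : G, ρ g x = y) :
    (p ^ 2 - 1) * (Nat.card (stab ρ x) - 1) ≤
      (p - 1) * Nat.card {c : G // c ≠ 1 ∧ ∃ y : V, y ≠ 0 ∧ ρ c y = y} := by
  haveI := Fintype.ofFinite G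
  haveI := Fintype.ofFinite V
  let P : Finset (G × V) := Finset.univ.filter fun q => q.1 ≠ 1 ∧ q.2 ≠ 0 ∧ ρ q.1 q.2 = q.2
  let F : Finset G := Finset.univ.filter fun c => c ≠ 1 ∧ ∃ y : V, y ≠ 0 ∧ ρ c y = y
  have hF : Nat.card {c : G // c ≠ 1 ∧ ∃ y : V, y ≠ 0 ∧ ρ c y = y} = F.card := by
    rw [Nat.card_eq_fintype_card, Fintype.card_subtype]
  have hup : P.card ≤ (p - 1) * F.card := by
    refine Finset.card_le_mul_card_image_of_maps_to (f := Prod.fst) ?_ (p - 1) ?_
    · intro q hq
      simp only [P, F, Finset.mem_filter, Finset.mem_univ, true_and] at hq ⊢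
      exact ⟨hq.1, q.2, hq.2⟩
    · intro c hc
      simp only [F, Finset.mem_filter, Finset.mem_univ, true_and] at hc
      obtain ⟨hc1, y, hy0, hy⟩ := hc
      have hsub : {q ∈ P | q.1 = c} ⊆ Finset.univ.image fun a : (ZMod p)ˣ => (c, (a : ZMod p) • y) := by
        intro q hq
        simp only [P, Finset.mem_filter, Finset.mem_univ, true_and] at hq
        obtain ⟨⟨-, h0, hfix⟩, rfl⟩ := hq
        obtain ⟨a, ha⟩ := fix_on_line hd hρ hc1 hy0 hy hfix
        have hane : a ≠ 0 := fun e => h0 (by rw [ha, e, zero_smul])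
        refine Finset.mem_image.2 ⟨Units.mk0 a hane, Finset.mem_univ _, ?_⟩
        exact Prod.ext rfl ha.symm
      refine (Finset.card_le_card hsub).trans (Finset.card_image_le.trans ?_)
      rw [Finset.card_univ, ZMod.card_units]
  have hlow : (p ^ 2 - 1) * (Nat.card (stab ρ x) - 1) = P.card := by
    rw [Finset.card_eq_sum_card_fiberwise (f := Prod.snd)
      (t := Finset.univ.filter fun y : V => y ≠ 0)]
    · rw [Finset.sum_const_nat (m := Nat.card (stab ρ x) - 1)]
      · congr 1
        rw [Finset.filter_ne', Finset.card_erase_of_mem (Finset.mem_univ _), Finset.card_univ,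
          ← Nat.card_eq_fintype_card, card_two hd]
      · intro y hy
        simp only [Finset.mem_filter, Finset.mem_univ, true_and] at hy
        rw [card_stab_eq ρ htr hx hy]
        have h1 : {q ∈ P | q.2 = y} =
            ((Finset.univ.filter fun c : G => c ∈ stab ρ y).erase 1).image fun c => (c, y) := by
          ext ⟨c, z⟩
          simp only [P, Finset.mem_filter, Finset.mem_univ, true_and, Finset.mem_image,
            Finset.mem_erase, Prod.mk.injEq, mem_stab]
          constructor
          · rintro ⟨⟨h1, h2, h3⟩, rfl⟩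
            exact ⟨c, ⟨h1, h3⟩, rfl, rfl⟩
          · rintro ⟨c', ⟨h1, h3⟩, rfl, rfl⟩
            exact ⟨⟨h1, hy, h3⟩, rfl⟩
        rw [h1, Finset.card_image_of_injective _ (fun a b h => (Prod.mk.injEq ..).mp h |>.1),
          Finset.card_erase_of_mem (by simp), ← Fintype.card_subtype, ← Nat.card_eq_fintype_card]
    · intro q hq
      simp only [P, Finset.coe_filter, Finset.mem_univ, true_and, Set.mem_setOf_eq] at hq ⊢
      exact hq.2.1
  rw [hF]
  omega

section singer

variable {g : G} (hg : g ∉ scal ρ) (hne : ∀ u : V, u ≠ 0 → ∀ a : ZMod p, ρ g u ≠ a • u)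

include hg hne

theorem mem_of_commute_of_mem {a y : G} (ha : a ∈ Cg g) (haZ : a ∉ scal ρ) (hy : y * a = a * y) :
    y ∈ Cg g :=
  Subgroup.mem_centralizer_singleton_iff.2
    (commute_of_commute hd hρ haZ hy (Subgroup.mem_centralizer_singleton_iff.1 ha).symm)

theorem centralizer_eq_of_mem {a : G} (ha : a ∈ Cg g) (haZ : a ∉ scal ρ) : Cg a = Cg g := by
  refine le_antisymm (fun y hy => mem_of_commute_of_mem hd hρ hg hne ha haZ
    (Subgroup.mem_centralizer_singleton_iff.1 hy)) fun y hy => ?_
  exact Subgroup.mem_centralizer_singleton_iff.2 (commute_of_commute hd hρ hg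
    (Subgroup.mem_centralizer_singleton_iff.1 hy) (Subgroup.mem_centralizer_singleton_iff.1 ha))

theorem mem_normalizer_of_map {x a : G} (ha : a ∈ Cg g) (haZ : a ∉ scal ρ)
    (hxa : x * a * x⁻¹ ∈ Cg g) : x ∈ Subgroup.normalizer ((Cg g : Subgroup G) : Set G) := by
  have hxaZ : x * a * x⁻¹ ∉ scal ρ := fun h => haZ (by
    have h1 := scal_comm hρ h x
    rw [inv_mul_cancel_right] at h1
    have h2 : x * a * x⁻¹ = a := mul_left_cancel (h1.symm)
    rwa [h2] at h)
  have hmap : ∀ t ∈ Cg g, x * t * x⁻¹ ∈ Cg g := fun t ht => by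
    refine mem_of_commute_of_mem hd hρ hg hne hxa hxaZ ?_
    have hta : t * a = a * t := commute_of_commute hd hρ hg
      (Subgroup.mem_centralizer_singleton_iff.1 ht) (Subgroup.mem_centralizer_singleton_iff.1 ha)
    have e1 : x * t * x⁻¹ * (x * a * x⁻¹) = x * (t * a) * x⁻¹ := by group
    have e2 : x * a * x⁻¹ * (x * t * x⁻¹) = x * (a * t) * x⁻¹ := by group
    rw [e1, e2, hta]
  rw [Subgroup.mem_normalizer_iff]
  intro t
  refine ⟨hmap t, fun ht => ?_⟩
  let f : Cg g → Cg g := fun s => ⟨x * (s : G) * x⁻¹, hmap s s.2⟩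
  have hf : Function.Injective f := fun s s' h => Subtype.ext (by
    have := congrArg Subtype.val h
    simpa [f] using this)
  obtain ⟨s, hs⟩ := Finite.surjective_of_injective hf ⟨_, ht⟩
  have h1 : x * (s : G) * x⁻¹ = x * t * x⁻¹ := congrArg Subtype.val hs
  rw [← mul_left_cancel (mul_right_cancel h1)]
  exact s.2

theorem sq_preimage_le (S : Set G) (hS : ∀ a ∈ S, a ∈ Cg g ∧ a ^ 2 ∈ scal ρ) :
    Nat.card S ≤ 2 * Nat.card (scal ρ) := by
  haveI := Fintype.ofFinite G
  let s : Finset G := Finset.univ.filter (· ∈ S)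
  let t : Finset G := Finset.univ.filter (· ∈ scal ρ)
  have hs : Nat.card S = s.card := by rw [Nat.card_eq_fintype_card, Fintype.card_subtype]
  have ht : Nat.card (scal ρ) = t.card := by rw [Nat.card_eq_fintype_card, Fintype.card_subtype]
  rw [hs, ht]
  refine Finset.card_le_mul_card_image_of_maps_to (f := fun a => a ^ 2) ?_ 2 ?_
  · intro a ha
    simp only [s, t, Finset.mem_filter, Finset.mem_univ, true_and] at ha ⊢
    exact (hS a ha).2
  · intro z _
    rcases ({a ∈ s | a ^ 2 = z}).eq_empty_or_nonempty with he | ⟨b, hb⟩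
    · simp [he]
    have h1 : (({a ∈ s | a ^ 2 = z}).erase b).card ≤ 1 := by
      have key : ∀ a ∈ ({a ∈ s | a ^ 2 = z}).erase b, ∀ u : V, ρ a u = - ρ b u := by
        intro a ha u
        simp only [s, Finset.mem_erase, Finset.mem_filter, Finset.mem_univ, true_and] at ha hb
        obtain ⟨hab, haS, haz⟩ := ha
        have hac := Subgroup.mem_centralizer_singleton_iff.1 (hS a haS).1
        have hbc := Subgroup.mem_centralizer_singleton_iff.1 (hS b hb.1).1
        have hcom : a * b = b * a := commute_of_commute hd hρ hg hac hbc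
        obtain ⟨u₀, hu₀⟩ : ∃ u₀, ρ a u₀ ≠ ρ b u₀ := by
          by_contra h
          push Not at h
          exact hab (hρ (LinearEquiv.ext h))
        let D : Module.End (ZMod p) V := (ρ a).toLinearMap + (ρ b).toLinearMap
        have hsq : ρ a (ρ a u₀) = ρ b (ρ b u₀) := by
          rw [← LinearEquiv.mul_apply, ← LinearEquiv.mul_apply, ← map_mul, ← map_mul, ← sq, ← sq,
            haz, hb.2]
        have hD : D = 0 := zero_or_injective hd hρ hg hne D
          (fun y => by simp [D, commute_apply hac, commute_apply hbc]) (sub_ne_zero.2 hu₀)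
          (by simp [D, map_sub, commute_apply hcom, hsq]; abel)
        exact eq_neg_of_add_eq_zero_left (by simpa [D] using LinearMap.congr_fun hD u)
      refine Finset.card_le_one.2 fun a ha a' ha' => hρ (LinearEquiv.ext fun u => ?_)
      rw [key a ha u, key a' ha' u]
    rw [Finset.card_erase_of_mem hb] at h1
    omega

/-- The regular abelian centraliser is normal of index at most two. -/
theorem singer_normal (hcop : ¬ p ∣ Nat.card G) (hp3 : 3 ≤ p)
    (htr : ∀ x y : V, x ≠ 0 → y ≠ 0 → ∃ g : G, ρ g x = y) (hT : Nat.card (Cg g) = p ^ 2 - 1)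
    {x₀ : V} (hx₀ : x₀ ≠ 0) :
    (Cg g).Normal ∧ Nat.card (stab ρ x₀) ≤ 2 ∧ (Cg g).index = Nat.card (stab ρ x₀) := by
  set h := Nat.card (stab ρ x₀) with hh
  have hh1 : 0 < h := Nat.card_pos
  have hhp : h ≤ p - 1 := stab_le hd hρ hcop hx₀
  have hz : Nat.card (scal ρ) ≤ p - 1 := card_scal_le ρ hρ (nontrivial_two hd)
  have hG : Nat.card G = (p ^ 2 - 1) * h := by rw [card_eq_of_trans ρ htr hx₀, card_two hd]
  have hq1 : 0 < p ^ 2 - 1 := hT ▸ Nat.card_pos
  have hidx : (Cg g).index = h := by
    have h1 := (Cg g).card_mul_index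
    rw [hT, hG] at h1
    exact Nat.eq_of_mul_eq_mul_left hq1 h1
  set N := Subgroup.normalizer ((Cg g : Subgroup G) : Set G) with hN
  have hTN : Cg g ≤ N := Subgroup.le_normalizer
  have hmul : (Cg g).relIndex N * N.index = h := by rw [Subgroup.relIndex_mul_index hTN, hidx]
  have hsq2 : p ^ 2 - 1 = (p - 1) * (p + 1) := by rw [← one_pow 2, Nat.sq_sub_sq, one_pow, mul_comm]
  have hNtop : N = ⊤ := by
    by_contra hNne
    obtain ⟨x, hx⟩ : ∃ x : G, x ∉ N := by
      by_contra hh2
      push Not at hh2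
      exact hNne (eq_top_iff.2 fun y _ => hh2 y)
    let q : G ⧸ N := QuotientGroup.mk x
    have hnot : ((1 : G) : G ⧸ N) ∉ MulAction.orbit (Cg g) q := by
      rintro ⟨a, ha⟩
      have h1 : ((a : G) * x)⁻¹ * 1 ∈ N := QuotientGroup.eq.1 ha
      rw [mul_one, inv_mem_iff] at h1
      exact hx (by simpa using mul_mem (inv_mem (hTN a.2)) h1)
    have horb : (MulAction.orbit (Cg g) q).ncard + 1 ≤ N.index := by
      rw [Subgroup.index, ← Set.ncard_univ, ← Set.ncard_insert_of_notMem hnot]
      exact Set.ncard_le_ncard (Set.subset_univ _)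
    have hstab : Nat.card (MulAction.stabilizer (Cg g) q) ≤ 2 * Nat.card (scal ρ) := by
      let S : Set G := {a | a ∈ Cg g ∧ a ^ 2 ∈ scal ρ}
      refine le_trans (Nat.card_le_card_of_injective (β := S) (fun a => ⟨((a : Cg g) : G), ?_⟩) ?_)
        (sq_preimage_le hd hρ hg hne S fun a ha => ha)
      · refine ⟨(a : Cg g).2, ?_⟩
        by_contra hns
        have h1 : (((a : Cg g) : G) * x)⁻¹ * x ∈ N := QuotientGroup.eq.1 a.2
        rw [mul_inv_rev] at h1
        have h2 : x⁻¹ * ((a : Cg g) : G) * x ∈ N := by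
          have := inv_mem h1
          simpa [mul_assoc] using this
        have h3 : (x⁻¹ * ((a : Cg g) : G) * x) * g * (x⁻¹ * ((a : Cg g) : G) * x)⁻¹ ∈ Cg g :=
          (Subgroup.mem_normalizer_iff.1 h2 g).1 (Subgroup.mem_centralizer_singleton_iff.2 rfl)
        have h4 := (le_two_conj hd hρ hg hne h3).1
        have h5 : x⁻¹ * ((a : Cg g) : G) ^ 2 * x⁻¹⁻¹ ∈ Cg g := by
          rw [inv_inv]
          simpa [sq, mul_assoc] using h4
        exact hx (by simpa using inv_mem (mem_normalizer_of_map hd hρ hg hne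
          (pow_mem (a : Cg g).2 2) hns h5))
      · intro a b hab
        exact Subtype.ext (Subtype.ext (congrArg (fun z : S => (z : G)) hab))
    have hcardT : Nat.card (Cg g) =
        (MulAction.orbit (Cg g) q).ncard * Nat.card (MulAction.stabilizer (Cg g) q) := by
      rw [← MulAction.index_stabilizer, Subgroup.index_mul_card]
    have hkey : p + 1 ≤ 2 * (N.index - 1) := by
      refine Nat.le_of_mul_le_mul_left (c := p - 1) ?_ (by omega)
      rw [← hsq2, ← hT, hcardT]
      refine le_trans (Nat.mul_le_mul (Nat.le_sub_of_add_le horb) (hstab.trans (Nat.mul_le_mul_left 2 hz)))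
        (le_of_eq (by ring))
    rcases Nat.lt_or_ge ((Cg g).relIndex N) 2 with hε | hε
    · have hε1 : (Cg g).relIndex N = 1 := by
        rcases Nat.eq_zero_or_pos ((Cg g).relIndex N) with h0 | h0
        · rw [h0, zero_mul] at hmul; omega
        · omega
      rw [hε1, one_mul] at hmul
      have hh2 : 2 ≤ h := by omega
      have hNeq : ∀ y ∈ N, y ∈ Cg g := fun y hy => (Subgroup.relIndex_eq_one.1 hε1) hy
      let A := {a : Cg g // (a : G) ∉ scal ρ}
      let F := {c : G // c ≠ 1 ∧ ∃ y : V, y ≠ 0 ∧ ρ c y = y}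
      let φ : ((G ⧸ N) × A ⊕ F) ⊕ (scal ρ) → G :=
        Sum.elim (Sum.elim (fun r => r.1.out * ((r.2.1 : Cg g) : G) * r.1.out⁻¹) (fun c => c.1))
          (fun z => (z : G))
      have hconjfree : ∀ (r : G) (a : A) (y : V), y ≠ 0 → ρ (r * ((a.1 : Cg g) : G) * r⁻¹) y = y →
          False := by
        intro r a y hy hfix
        have h1 : ρ ((a.1 : Cg g) : G) (ρ r⁻¹ y) = ρ r⁻¹ y := by
          conv_rhs => rw [← hfix]
          rw [← LinearEquiv.mul_apply, ← LinearEquiv.mul_apply, ← map_mul, ← map_mul]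
          congr 2
          group
        have h2 := free_centralizer hd hρ hg hne (Subgroup.mem_centralizer_singleton_iff.1 a.1.2)
          (fun e => hy ((ρ r⁻¹).map_eq_zero_iff.1 e)) h1
        exact a.2 (h2 ▸ one_mem _)
      have hφ : Function.Injective φ := by
        refine Function.Injective.sumElim (Function.Injective.sumElim ?_ Subtype.val_injective ?_)
          Subtype.val_injective ?_
        · rintro ⟨q₁, a⟩ ⟨q₂, b⟩ hab
          simp only at hab
          have hr : (q₂.out⁻¹ * q₁.out) * ((a.1 : Cg g) : G) * (q₂.out⁻¹ * q₁.out)⁻¹ =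
              ((b.1 : Cg g) : G) := by
            have : q₂.out⁻¹ * (q₁.out * ((a.1 : Cg g) : G) * q₁.out⁻¹) * q₂.out = ((b.1 : Cg g) : G) := by
              rw [hab]; group
            rw [← this]; group
          have hrN : q₂.out⁻¹ * q₁.out ∈ N :=
            mem_normalizer_of_map hd hρ hg hne a.1.2 a.2 (hr ▸ b.1.2)
          have hq12 : q₂ = q₁ := by
            rw [← q₂.out_eq, ← q₁.out_eq]
            exact QuotientGroup.eq.2 hrN
          subst hq12
          have hab' : ((a.1 : Cg g) : G) = ((b.1 : Cg g) : G) := mul_left_cancel (mul_right_cancel hab)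
          have hab2 : a = b := Subtype.ext (Subtype.ext hab')
          rw [hab2]
        · rintro ⟨q₁, a⟩ ⟨c, hc1, y, hy, hfix⟩ hac
          simp only at hac
          exact hconjfree _ a y hy (hac ▸ hfix)
        · rintro (⟨q₁, a⟩ | ⟨c, hc1, y, hy, hfix⟩) z hz2
          · simp only [Sum.elim_inl] at hz2
            refine a.2 ?_
            have h1 := scal_comm hρ z.2 q₁.out
            rw [← hz2, inv_mul_cancel_right] at h1
            have h2 := mul_left_cancel (h1.symm)
            rw [hz2] at h2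
            exact h2.symm ▸ z.2
          · simp only [Sum.elim_inl, Sum.elim_inr] at hz2
            exact hc1 (hz2 ▸ scal_fix hρ z.2 hy (hz2 ▸ hfix))
      have hAcard : Nat.card A + Nat.card (scal ρ) = p ^ 2 - 1 := by
        have hle : scal ρ ≤ Cg g := fun a ha =>
          Subgroup.mem_centralizer_singleton_iff.2 (scal_comm hρ ha g)
        rw [← hT, ← Nat.card_congr (Subgroup.subgroupOfEquivOfLe hle).toEquiv, add_comm,
          ← Nat.card_sum]
        exact Nat.card_congr (Equiv.sumCompl fun a : Cg g => (a : G) ∈ scal ρ)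
      have htot := Nat.card_le_card_of_injective φ hφ
      rw [Nat.card_sum, Nat.card_sum, Nat.card_prod, ← Subgroup.index, hmul, hG] at htot
      have hF : (p ^ 2 - 1) * (h - 1) ≤ (p - 1) * Nat.card F := fix_pairs_le hd hρ hx₀ htr
      obtain ⟨d, hd'⟩ : ∃ d, h = d + 2 := ⟨h - 2, by omega⟩
      rw [hsq2] at hF hAcard htot
      have hF2 : Nat.card F ≤ (d + 1) * Nat.card (scal ρ) := by
        rw [← hAcard, hd'] at htot
        nlinarith
      have hF3 : (p - 1) * ((p + 1) * (d + 1)) ≤ (p - 1) * ((d + 1) * (p - 1)) := by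
        refine le_trans ?_ (Nat.mul_le_mul_left _ (hF2.trans (Nat.mul_le_mul_left _ hz)))
        rw [hd', show d + 2 - 1 = d + 1 by omega, mul_assoc] at hF
        exact hF
      have hF4 := Nat.le_of_mul_le_mul_left hF3 (by omega : 0 < p - 1)
      rw [mul_comm (d + 1)] at hF4
      have := Nat.le_of_mul_le_mul_right hF4 (Nat.succ_pos d)
      omega
    · have : 2 * N.index ≤ h := hmul ▸ Nat.mul_le_mul_right _ hε
      omega
  have hnormal : (Cg g).Normal := Subgroup.normalizer_eq_top_iff.1 hNtop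
  refine ⟨hnormal, ?_, hidx⟩
  obtain ⟨y, hy⟩ := (stab_isCyclic hd hρ hcop hx₀).exists_ofOrder_eq_natCard
  have h2 : y ^ 2 = 1 := by
    refine Subtype.ext (free_centralizer hd hρ hg hne (Subgroup.mem_centralizer_singleton_iff.1
      (le_two_conj hd hρ hg hne (hnormal.conj_mem g (Subgroup.mem_centralizer_singleton_iff.2 rfl)
        (y : G))).1) hx₀ (pow_mem y.2 2))
  rw [hh, ← hy]
  exact Nat.le_of_dvd two_pos (orderOf_dvd_of_pow_eq_one h2)

end singer

/-- The class number bound on a plane. -/
theorem plane_upper (hcop : ¬ p ∣ Nat.card G)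
    (htr : ∀ x y : V, x ≠ 0 → y ≠ 0 → ∃ g : G, ρ g x = y) {x₀ : V} (hx₀ : x₀ ≠ 0) :
    Nat.card (ConjClasses G) + Nat.card (ConjClasses (stab ρ x₀)) < Nat.card V ∨ IsCyclic G ∨
      (Nat.card V = 9 ∧ Nat.card G = 16) := by
  rw [card_two hd]
  have hkH : Nat.card (ConjClasses (stab ρ x₀)) ≤ Nat.card (stab ρ x₀) := classes_le_card
  have hG : Nat.card G = (p ^ 2 - 1) * Nat.card (stab ρ x₀) := by
    rw [card_eq_of_trans ρ htr hx₀, card_two hd]
  have hhp := stab_le hd hρ hcop hx₀
  have hz : Nat.card (scal ρ) ≤ p - 1 := card_scal_le ρ hρ (nontrivial_two hd)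
  set h := Nat.card (stab ρ x₀) with hh
  have hh0 : 0 < h := Nat.card_pos
  rcases eq_or_ne h 1 with h1 | h1
  · rw [h1, mul_one] at hG
    by_cases hab : IsMulCommutative G
    · exact Or.inr (Or.inl (isCyclic_of_commutative ρ hρ htr hab))
    · have := classes_lt_card hab
      left
      omega
  have hp3 : 3 ≤ p := by omega
  have hz0 : 0 < Nat.card (scal ρ) := Nat.card_pos
  obtain ⟨e, rfl⟩ : ∃ e, p = e + 3 := ⟨p - 3, by omega⟩
  rw [show e + 3 - 1 = e + 2 by omega] at hhp hz
  have hq : (e + 3) ^ 2 - 1 = e * e + 6 * e + 8 := by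
    rw [show (e + 3) ^ 2 = e * e + 6 * e + 9 by ring]
    rfl
  by_cases hsmall : ∀ g, g ∉ scal ρ → Nat.card (Cg g) ≤ (e + 2) ^ 2
  · left
    have hb := classes_mul_card_le (scal ρ) ⊤ le_top ((e + 2) ^ 2) 0 (fun g _ hg => hsmall g hg)
      (fun g hg => absurd (Subgroup.mem_top g) hg)
    rw [Subgroup.card_top, Nat.sub_self, zero_mul, add_zero] at hb
    have hlt : Nat.card (ConjClasses G) * Nat.card G <
        (Nat.card (scal ρ) + (e + 2) ^ 2) * Nat.card G := by
      refine lt_of_le_of_lt hb ?_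
      rw [add_mul, Nat.sub_mul, mul_comm ((e + 2) ^ 2)]
      have hzG : Nat.card (scal ρ) ≤ Nat.card G := Subgroup.card_le_card_group _
      have : 0 < Nat.card (scal ρ) * (e + 2) ^ 2 := by positivity
      have : Nat.card (scal ρ) * (e + 2) ^ 2 ≤ Nat.card G * (e + 2) ^ 2 := Nat.mul_le_mul_right _ hzG
      omega
    have hk := Nat.lt_of_mul_lt_mul_right hlt
    nlinarith
  · push Not at hsmall
    obtain ⟨g, hg, hbig⟩ := hsmall
    have hne : ∀ u : V, u ≠ 0 → ∀ a : ZMod (e + 3), ρ g u ≠ a • u := by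
      intro u hu a ha
      have h2 := split_bound hd hρ htr hg hu ha hx₀
      rw [show e + 3 - 1 = e + 2 by omega, ← hh] at h2
      have h3 : (e + 2) * h ≤ (e + 2) * (e + 2) := Nat.mul_le_mul_left _ hhp
      rw [sq] at hbig
      omega
    have hT : Nat.card (Cg g) = (e + 3) ^ 2 - 1 := by
      rcases elliptic_bound hd hρ hg hne with h2 | h2
      · exact h2
      · rw [hq] at h2
        nlinarith
    obtain ⟨hnorm, hh2, hidx⟩ := singer_normal hd hρ hg hne hcop hp3 htr hT hx₀
    rw [← hh] at hh2 hidx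
    have hh2' : h = 2 := by omega
    rw [hh2'] at hG hidx
    rcases Nat.eq_zero_or_pos e with rfl | he
    · exact Or.inr (Or.inr ⟨by norm_num, by rw [hG]; norm_num⟩)
    left
    have hle : scal ρ ≤ Cg g := fun a ha =>
      Subgroup.mem_centralizer_singleton_iff.2 (scal_comm hρ ha g)
    have hb := classes_mul_card_le (scal ρ) (Cg g) hle (Nat.card (Cg g)) (2 * Nat.card (scal ρ))
      (fun a ha haZ => le_of_eq (by rw [centralizer_eq_of_mem hd hρ hg hne ha haZ]))
      (fun x hx => by
        haveI := hnorm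
        have hsub : ((Cg g).subgroupOf (Cg x)).map (Cg x).subtype ≤ scal ρ := by
          rintro _ ⟨a, ha, rfl⟩
          exact scal_of_commute_both hd hρ hg hne (by omega)
            (hnorm.conj_mem g (Subgroup.mem_centralizer_singleton_iff.2 rfl) x)
            (fun hxg => hx (Subgroup.mem_centralizer_singleton_iff.2 hxg)) ha
            (Subgroup.mem_centralizer_singleton_iff.1 a.2)
        rw [← Subgroup.card_mul_index ((Cg g).subgroupOf (Cg x)), mul_comm]
        refine Nat.mul_le_mul ?_ ?_
        · have h4 : ((Cg g).subgroupOf (Cg x)).index ∣ (Cg g).index :=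
            Subgroup.relIndex_dvd_index_of_normal (Cg g) (Cg x)
          rw [hidx] at h4
          exact Nat.le_of_dvd two_pos h4
        · exact (Nat.card_congr (((Cg g).subgroupOf (Cg x)).equivMapOfInjective (Cg x).subtype
            Subtype.val_injective).toEquiv).trans_le (Subgroup.card_le_of_le hsub))
    rw [hT, hG, hq] at hb
    set T := e * e + 6 * e + 8 with hTdef
    have hTT : T * 2 - T = T := by omega
    rw [hTT] at hb
    have hzT : (T - Nat.card (scal ρ)) * T ≤ T * T := Nat.mul_le_mul_right _ (Nat.sub_le _ _)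
    have hk : Nat.card (ConjClasses G) * 2 ≤ Nat.card (scal ρ) * 4 + T := by
      refine Nat.le_of_mul_le_mul_right (c := T) ?_ (by omega)
      nlinarith
    rw [hTdef] at hk
    nlinarith

end H23.KGV
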