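import Cfsg.Agent.H23.KGV.Plane
import Cfsg.Agent.H23.KGV.Semilinear
import Cfsg.Agent.H23.KGV.Extraspecial
import Cfsg.Agent.H23.KGV.Eightyone
import Cfsg.Agent.H13.CT.Main
import Cfsg.Agent.S3360

/-!
Class numbers of a group of order prime to `p`, transitive on the non-zero vectors, and of a
vector stabiliser.
-/

set_option autoImplicit false
set_option linter.style.haveILetI false
set_option linter.unusedSectionVars false

namespace H23.KGV

open scoped Classical commutatorElement

universe u v

theorem classes_congr {G : Type u} [Group G] {H : Type v} [Group H] (e : G ≃* H) :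
    Nat.card (ConjClasses G) = Nat.card (ConjClasses H) := by
  refine Nat.card_congr
    { toFun := ConjClasses.map e.toMonoidHom
      invFun := ConjClasses.map e.symm.toMonoidHom
      left_inv := fun c => ?_
      right_inv := fun c => ?_ }
  · induction c using Quotient.inductionOn with
    | h a => exact congrArg ConjClasses.mk (e.symm_apply_apply a)
  · induction c using Quotient.inductionOn with
    | h a => exact congrArg ConjClasses.mk (e.apply_symm_apply a)

variable {p : ℕ} [Fact p.Prime] {V : Type v} [AddCommGroup V] [Module (ZMod p) V] [Finite V]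
  {G : Type u} [Group G] [Finite G] {ρ : G →* (V ≃ₗ[ZMod p] V)}

/-- Dimension one. -/
theorem line_cyclic (hρ : Function.Injective ρ)
    (htr : ∀ x y : V, x ≠ 0 → y ≠ 0 → ∃ g : G, ρ g x = y)
    (hd : Module.finrank (ZMod p) V = 1) : IsCyclic G := by
  obtain ⟨v₀, hv₀, hspan⟩ := finrank_eq_one_iff'.1 hd
  have hsc : ∀ g : G, ∃ c : ZMod p, ∀ w : V, ρ g w = c • w := fun g => by
    obtain ⟨c, hc⟩ := hspan (ρ g v₀)
    refine ⟨c, fun w => ?_⟩
    obtain ⟨d, rfl⟩ := hspan w
    rw [map_smul, ← hc, smul_comm]
  refine isCyclic_of_commutative ρ hρ htr ⟨⟨fun a b => hρ (LinearEquiv.ext fun w => ?_)⟩⟩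
  obtain ⟨c, hc⟩ := hsc a
  obtain ⟨d, hd'⟩ := hsc b
  rw [map_mul, map_mul, LinearEquiv.mul_apply, LinearEquiv.mul_apply, hd', hc, hc, hd', smul_comm]

/-- The class number bound for a transitive group of order prime to `p`. -/
theorem trans_upper (hρ : Function.Injective ρ) (hcop : ¬ p ∣ Nat.card G)
    (htr : ∀ x y : V, x ≠ 0 → y ≠ 0 → ∃ g : G, ρ g x = y) {x₀ : V} (hx₀ : x₀ ≠ 0) :
    Nat.card (ConjClasses G) + Nat.card (ConjClasses (stab ρ x₀)) < Nat.card V ∨ IsCyclic G ∨
      (Nat.card V = 8 ∧ Nat.card G = 21) ∨ (Nat.card V = 9 ∧ Nat.card G = 16) := by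
  haveI : Nontrivial V := ⟨⟨x₀, 0, hx₀⟩⟩
  have hq : Nat.card V = p ^ Module.finrank (ZMod p) V := by
    rw [Module.natCard_eq_pow_finrank (K := ZMod p), Nat.card_zmod]
  have hpos : 0 < Module.finrank (ZMod p) V := Module.finrank_pos
  rcases (show Module.finrank (ZMod p) V = 1 ∨ Module.finrank (ZMod p) V = 2 ∨
      3 ≤ Module.finrank (ZMod p) V by omega) with h1 | h2 | h3
  · exact Or.inr (Or.inl (line_cyclic hρ htr h1))
  · rcases plane_upper h2 hρ hcop htr hx₀ with h | h | h
    · exact Or.inl h
    · exact Or.inr (Or.inl h)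
    · exact Or.inr (Or.inr (Or.inr h))
  · have hsol : Group.IsSolvable G := H13.CT.isSolvable p ρ hρ hcop htr h3
    let e : G ≃* ρ.range := MonoidHom.ofInjective hρ
    haveI := hsol
    have hsol' : Group.IsSolvable ρ.range :=
      Group.isSolvable_of_surjective (f := e.toMonoidHom) e.surjective
    have htr' : H58.TransLin.Trans ρ.range := fun v w hv hw => by
      obtain ⟨g, hg⟩ := htr v w hv hw
      exact ⟨e g, hg⟩
    by_cases hI : H58.TransLin.NoAbIrr ρ.range
    · left
      have h81 : Nat.card V = 81 := by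
        have h := H58.TransLin.exceptional_degrees htr' hI hsol'
        have hne := H13.CT.pow_not_exceptional (Fact.out : p.Prime).two_le h3
        rw [← hq] at hne
        simp only [Set.mem_insert_iff, Set.mem_singleton_iff] at h
        omega
      obtain rfl : p = 3 := by
        have hd : p ∣ 3 ^ 4 := by
          rw [show (3 : ℕ) ^ 4 = Nat.card V by rw [h81]; norm_num, hq]
          exact dvd_pow_self _ hpos.ne'
        exact (Nat.prime_dvd_prime_iff_eq Fact.out Nat.prime_three).1
          ((Fact.out : p.Prime).dvd_of_dvd_pow hd)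
      have h4 : Module.finrank (ZMod 3) V = 4 := by
        refine Nat.pow_right_injective (show 2 ≤ 3 by norm_num) ?_
        show 3 ^ _ = 3 ^ 4
        rw [← hq, h81]
      haveI := H58.RegLin.finite_group (H := ρ.range)
      obtain ⟨K, hKn, -, -, hK, hZ, hC, hker, -⟩ := symp_81 htr' hI hsol' h4
      obtain ⟨h80, h2560⟩ := H13.CT.order_eighty_one ρ hρ hcop htr h81
      obtain ⟨a, ha, hG⟩ : ∃ a ≤ 9, Nat.card G = 2 ^ a * 5 := by
        obtain ⟨c, hc⟩ : 5 ∣ Nat.card G := (by norm_num : 5 ∣ 80).trans h80
        rw [hc, mul_comm (2 ^ 9)] at h2560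
        obtain ⟨a, ha, rfl⟩ := (Nat.dvd_prime_pow Nat.prime_two).1
          (Nat.dvd_of_mul_dvd_mul_left (by norm_num) h2560)
        exact ⟨a, ha, by rw [hc, mul_comm]⟩
      have hG' : Nat.card ρ.range = 2 ^ a * 5 := by rw [← Nat.card_congr e.toEquiv, hG]
      have hk := classes_eightyone hK hZ hC hker ha hG'
      have h640 := card_le_640 hK hZ hC hker ha hG'
      rw [← classes_congr e, ← Nat.card_congr e.toEquiv] at hk
      rw [← Nat.card_congr e.toEquiv] at h640
      have hkH : Nat.card (ConjClasses (stab ρ x₀)) ≤ Nat.card (stab ρ x₀) := classes_le_card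
      have hst := card_eq_of_trans ρ htr hx₀
      rw [h81] at hst ⊢
      omega
    · unfold H58.TransLin.NoAbIrr at hI
      push Not at hI
      obtain ⟨A, hAn, hAc, hA⟩ := hI
      haveI := hAn
      haveI := H58.RegLin.finite_group (H := ρ.range)
      obtain ⟨F, i, j, φ, hφ⟩ := H2.semilinear_of_irred ρ.range.subtype A
        (fun a ha b hb => congrArg Subtype.val (hAc.is_comm.comm ⟨a, ha⟩ ⟨b, hb⟩)) (fun W hW => by
          by_contra hne
          push Not at hne
          exact hA W hne.1 hne.2 hW)
      rcases semilinear_upper ρ φ (fun g => hφ (e g)) hρ htr hcop hq h3 hx₀ with h | h | h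
      · exact Or.inl h
      · exact Or.inr (Or.inl h)
      · exact Or.inr (Or.inr (Or.inl h))

end H23.KGV
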